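import Groth.Agent.Lib27.Fan.Repr

/-!
# Bounded fans and maps, quasi-separated fans (helper27)
-/

set_option autoImplicit false
universe u
open CategoryTheory Opposite Instab Finset Filter Topology

namespace Groth.Agent.Lib27.Fan

variable {F G : Fan.{u}}

section Pairs

variable {n n' : ICone} (ξ : G.obj (op n)) (ξ' : G.obj (op n'))

/-- the first cone morphism of a cone of `h_n ×_G h_n'` -/
noncomputable def pfst {k : ICone} (ρ : (Limits.pullback (Fan.coneMap ξ) (Fan.coneMap ξ')).obj (op k)) : k ⟶ n :=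
  ((Limits.pullback.fst (Fan.coneMap ξ) (Fan.coneMap ξ')).app _ ρ).down

/-- the second cone morphism of a cone of `h_n ×_G h_n'` -/
noncomputable def psnd {k : ICone} (ρ : (Limits.pullback (Fan.coneMap ξ) (Fan.coneMap ξ')).obj (op k)) : k ⟶ n' :=
  ((Limits.pullback.snd (Fan.coneMap ξ) (Fan.coneMap ξ')).app _ ρ).down

theorem pfst_psnd {k : ICone}
    (ρ : (Limits.pullback (Fan.coneMap ξ) (Fan.coneMap ξ')).obj (op k)) :
    G.map (pfst ξ ξ' ρ).op ξ = G.map (psnd ξ ξ' ρ).op ξ' :=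
  pullback_condition_app (Fan.coneMap ξ) (Fan.coneMap ξ') ρ

theorem exists_finset_pairs (hG : G.IsQuasiSeparated) :
    ∃ s : Finset (Σ k : ICone, (k ⟶ n) × (k ⟶ n')),
      (∀ e ∈ s, G.map e.2.1.op ξ = G.map e.2.2.op ξ') ∧
      ∀ (v : Fan.Orth n) (w : Fan.Orth n'), Fan.P.mk ξ v = Fan.P.mk ξ' w ↔
        ∃ e ∈ s, ∃ (y : Fan.Orth e.1) (c c' : ℝ), 0 < c ∧ 0 < c' ∧
          v.1 = c • e.2.1.realMap y.1 ∧ w.1 = c' • e.2.2.realMap y.1 := by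
  classical
  obtain ⟨s, hs⟩ := hG n n' ξ ξ'
  refine ⟨s.image (fun e => ⟨e.1, (pfst ξ ξ' e.2, psnd ξ ξ' e.2)⟩), ?_, ?_⟩
  · intro e he
    obtain ⟨d, _, rfl⟩ := Finset.mem_image.mp he
    exact pfst_psnd ξ ξ' d.2
  · intro v w
    constructor
    · intro h
      obtain ⟨k₀, φ₀, φ₀', y₀, c₁, c₂, h1, hc₁, hc₂, hv, hw⟩ := (mk_eq_iff ξ ξ' v w).mp h
      obtain ⟨ρ₀, hρ1, hρ2⟩ := exists_pullback_elt (Fan.coneMap ξ) (Fan.coneMap ξ')
        (ULift.up φ₀) (ULift.up φ₀') h1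
      obtain ⟨d, hd, y, hy⟩ := hs (Fan.P.mk ρ₀ y₀)
      have e1 := congrArg (Fan.P.map (Limits.pullback.fst (Fan.coneMap ξ) (Fan.coneMap ξ'))) hy
      have e2 := congrArg (Fan.P.map (Limits.pullback.snd (Fan.coneMap ξ) (Fan.coneMap ξ'))) hy
      rw [P.map_mk, P.map_mk, hρ1] at e1
      rw [P.map_mk, P.map_mk, hρ2] at e2
      obtain ⟨a, ha, ha'⟩ := (yo_mk_eq_iff (pfst ξ ξ' d.2) φ₀ y y₀).mp e1
      obtain ⟨b, hb, hb'⟩ := (yo_mk_eq_iff (psnd ξ ξ' d.2) φ₀' y y₀).mp e2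
      refine ⟨⟨d.1, (pfst ξ ξ' d.2, psnd ξ ξ' d.2)⟩, Finset.mem_image.mpr ⟨d, hd, rfl⟩, y,
        c₁ * a, c₂ * b, mul_pos hc₁ ha, mul_pos hc₂ hb, ?_, ?_⟩
      · rw [hv, ha', smul_smul]
      · rw [hw, hb', smul_smul]
    · rintro ⟨e, he, y, c, c', hc, hc', hv, hw⟩
      obtain ⟨d, _, rfl⟩ := Finset.mem_image.mp he
      rw [← mk_map_eq (pfst ξ ξ' d.2) ξ y v c hc hv, ← mk_map_eq (psnd ξ ξ' d.2) ξ' y w c' hc' hw,
        pfst_psnd]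

end Pairs

section BddMap

variable (ψ : F ⟶ G) {n : ICone} (ξ : G.obj (op n))

/-- the cone morphism of a cone of `F ×_G h_n` -/
noncomputable def qsnd {k : ICone} (ρ : (Limits.pullback ψ (Fan.coneMap ξ)).obj (op k)) : k ⟶ n :=
  ((Limits.pullback.snd ψ (Fan.coneMap ξ)).app _ ρ).down

/-- the cone of `F` of a cone of `F ×_G h_n` -/
noncomputable def qfst {k : ICone} (ρ : (Limits.pullback ψ (Fan.coneMap ξ)).obj (op k)) : F.obj (op k) :=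
  (Limits.pullback.fst ψ (Fan.coneMap ξ)).app _ ρ

theorem qfst_qsnd {k : ICone} (ρ : (Limits.pullback ψ (Fan.coneMap ξ)).obj (op k)) :
    ψ.app _ (qfst ψ ξ ρ) = G.map (qsnd ψ ξ ρ).op ξ :=
  pullback_condition_app ψ (Fan.coneMap ξ) ρ

/-- a point of `P F` over the point `mk ξ v` comes from one of the cones of a cover of the base change -/
theorem exists_of_map_eq (s : Finset (Σ k : ICone, (Limits.pullback ψ (Fan.coneMap ξ)).obj (op k)))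
    (hs : ∀ x : Fan.P (Limits.pullback ψ (Fan.coneMap ξ)), ∃ e ∈ s, x ∈ Fan.P.cell e.2)
    (x : Fan.P F) (v : Fan.Orth n) (h : Fan.P.map ψ x = Fan.P.mk ξ v) :
    ∃ d ∈ s, ∃ (y : Fan.Orth d.1) (c : ℝ), 0 < c ∧ v.1 = c • (qsnd ψ ξ d.2).realMap y.1 ∧
      x = Fan.P.mk (qfst ψ ξ d.2) y := by
  obtain ⟨y', hy1, hy2⟩ := P.pullback_surjective ψ (Fan.coneMap ξ) x
    (Fan.P.mk (F := yo.{u} n) (ULift.up (𝟙 n)) v) (by rw [map_coneMap_mk, h])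
  obtain ⟨d, hd, y, rfl⟩ := hs y'
  refine ⟨d, hd, y, ?_⟩
  rw [P.map_mk] at hy1 hy2
  obtain ⟨c, hc, hc'⟩ := (yo_mk_eq_iff (qsnd ψ ξ d.2) (𝟙 n) y v).mp hy2
  rw [realMap_id] at hc'
  exact ⟨c, hc, hc', hy1.symm⟩

theorem map_mk_qfst {k : ICone} (ρ : (Limits.pullback ψ (Fan.coneMap ξ)).obj (op k))
    (y : Fan.Orth k) (v : Fan.Orth n) (c : ℝ) (hc : 0 < c)
    (hv : v.1 = c • (qsnd ψ ξ ρ).realMap y.1) :
    Fan.P.map ψ (Fan.P.mk (qfst ψ ξ ρ) y) = Fan.P.mk ξ v := by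
  rw [P.map_mk, qfst_qsnd, mk_map_eq (qsnd ψ ξ ρ) ξ y v c hc hv]

theorem image_cell_eq (hψ : Fan.IsBoundedMap ψ) :
    ∃ s : Finset (Σ k : ICone, k ⟶ n),
      {v : Fan.Orth n | Fan.P.mk ξ v ∈ Set.range (Fan.P.map ψ)} =
        ⋃ e ∈ s, {v : Fan.Orth n | ∃ (y : Fan.Orth e.1) (c : ℝ), 0 < c ∧
          v.1 = c • e.2.realMap y.1} := by
  classical
  obtain ⟨s, hs⟩ := hψ n ξ
  refine ⟨s.image (fun d => ⟨d.1, qsnd ψ ξ d.2⟩), ?_⟩
  ext v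
  simp only [Set.mem_ofPred_eq, Set.mem_iUnion, Finset.mem_image, exists_prop]
  constructor
  · rintro ⟨x, hx⟩
    obtain ⟨d, hd, y, c, hc, hv, _⟩ := exists_of_map_eq ψ ξ s hs x v hx
    exact ⟨⟨d.1, qsnd ψ ξ d.2⟩, ⟨d, hd, rfl⟩, y, c, hc, hv⟩
  · rintro ⟨e, ⟨d, hd, rfl⟩, y, c, hc, hv⟩
    exact ⟨_, map_mk_qfst ψ ξ d.2 y v c hc hv⟩

theorem finite_fiber (hψ : Fan.IsBoundedMap ψ) (y₀ : Fan.P G) :
    (Fan.P.map ψ ⁻¹' {y₀}).Finite := by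
  classical
  obtain ⟨n, ξ, v, rfl⟩ := P.mk_surjective y₀
  obtain ⟨s, hs⟩ := hψ n ξ
  let A : (Σ k : ICone, (Limits.pullback ψ (Fan.coneMap ξ)).obj (op k)) → Set (Fan.P F) :=
    fun d => {x | ∃ (y : Fan.Orth d.1) (c : ℝ), 0 < c ∧ v.1 = c • (qsnd ψ ξ d.2).realMap y.1 ∧
      x = Fan.P.mk (qfst ψ ξ d.2) y}
  have hA : ∀ d, (A d).Subsingleton := by
    rintro d x ⟨y, c, hc, hv, rfl⟩ x' ⟨y', c', hc', hv', rfl⟩
    have h1 : (qsnd ψ ξ d.2).realMap (c • y.1) = (qsnd ψ ξ d.2).realMap (c' • y'.1) := by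
      rw [realMap_smul, realMap_smul, ← hv, ← hv']
    have h2 := realMap_injective _ h1
    apply mk_eq_of_smul _ y y' (c'⁻¹ * c) (mul_pos (inv_pos.mpr hc') hc)
    rw [mul_smul, h2, smul_smul, inv_mul_cancel₀ hc'.ne', one_smul]
  apply Set.Finite.subset (Set.Finite.biUnion s.finite_toSet fun d _ => (hA d).finite)
  intro x hx
  obtain ⟨d, hd, y, c, hc, hv, hxy⟩ := exists_of_map_eq ψ ξ s hs x v hx
  exact Set.mem_biUnion hd ⟨y, c, hc, hv, hxy⟩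

theorem isClosedMap_map (hψ : Fan.IsBoundedMap ψ) : IsClosedMap (Fan.P.map ψ) := by
  classical
  intro Z hZ
  rw [isClosed_iff]
  intro n ξ
  obtain ⟨s, hs⟩ := hψ n ξ
  have h1 : Fan.P.mk ξ ⁻¹' (Fan.P.map ψ '' Z) =
      ⋃ d ∈ s, {v : Fan.Orth n | ∃ y ∈ (Fan.P.mk (qfst ψ ξ d.2) ⁻¹' Z : Set (Fan.Orth d.1)),
        v.1 = (qsnd ψ ξ d.2).realMap y.1} := by
    ext v
    simp only [Set.mem_preimage, Set.mem_image, Set.mem_iUnion, Set.mem_ofPred_eq, exists_prop]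
    constructor
    · rintro ⟨x, hxZ, hx⟩
      obtain ⟨d, hd, y, c, hc, hv, rfl⟩ := exists_of_map_eq ψ ξ s hs x v hx
      have hcy : (∀ i, 0 ≤ (c • y.1) i) ∧ c • y.1 ≠ 0 := by
        constructor
        · intro i; exact mul_nonneg hc.le (y.2.1 i)
        · intro h
          apply y.2.2
          have := congrArg (fun t => c⁻¹ • t) h
          simpa [smul_smul, inv_mul_cancel₀ hc.ne'] using this
      refine ⟨d, hd, ⟨c • y.1, hcy⟩, ?_, ?_⟩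
      · rw [← mk_eq_of_smul (qfst ψ ξ d.2) y ⟨c • y.1, hcy⟩ c hc rfl]
        exact hxZ
      · rw [hv, realMap_smul]
    · rintro ⟨d, hd, y, hy, hv⟩
      exact ⟨_, hy, map_mk_qfst ψ ξ d.2 y v 1 one_pos (by rw [one_smul, hv])⟩
  rw [h1]
  apply Set.Finite.isClosed_biUnion s.finite_toSet
  intro d _
  exact isClosed_omap_image _ _ (hZ.preimage (continuous_mk _))

end BddMap

end Groth.Agent.Lib27.Fan
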