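import Groth.Agent.Lib27.Fan.Bdd

/-!
# Bounded maps and quasi-separated fans, II (helper27)
-/

set_option autoImplicit false
universe u
open CategoryTheory Opposite Instab Finset Filter Topology

namespace Groth.Agent.Lib27.Fan

variable {F G : Fan.{u}}

theorem surjective_iff_rational (ψ : F ⟶ G) (hψ : Fan.IsBoundedMap ψ) :
    Function.Surjective (Fan.P.map ψ) ↔
      ∀ y : Fan.P G, y.IsRational → y ∈ Set.range (Fan.P.map ψ) := by
  constructor
  · intro h y _
    exact h y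
  · intro h y
    obtain ⟨n, ξ, v, rfl⟩ := P.mk_surjective y
    have hcl : IsClosed (Set.range (Fan.P.map ψ)) := by
      rw [← Set.image_univ]
      exact isClosedMap_map ψ hψ _ isClosed_univ
    have : v ∈ Fan.P.mk ξ ⁻¹' Set.range (Fan.P.map ψ) := by
      apply mem_of_isClosed_of_rational _ (hcl.preimage (continuous_mk ξ))
      intro w hw hw0 c hc u hu
      exact h _ (isRational_mk_of_int ξ w hw hw0 c hc u hu)
    exact this

theorem isClosedEmbedding_map (ψ : F ⟶ G) (hψ : Fan.IsBoundedMap ψ)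
    (hinj : ∀ n : ICone, Function.Injective (ψ.app (op n))) :
    Topology.IsClosedEmbedding (Fan.P.map ψ) :=
  Topology.IsClosedEmbedding.of_continuous_injective_isClosedMap (continuous_map ψ)
    (P.map_injective ψ hinj) (isClosedMap_map ψ hψ)

theorem isBoundedMap_coneMap (hF : F.IsQuasiSeparated) {n : ICone} (ξ : F.obj (op n)) :
    Fan.IsBoundedMap (Fan.coneMap ξ) :=
  fun n' σ' => hF n n' ξ σ'

/-- a closed saturated subset of the punctured orthant has closed image in `P h_n` -/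
theorem isClosed_yo_image {n : ICone} (S : Set (Fan.Orth n)) (hS : IsClosed S)
    (hsat : ∀ v w : Fan.Orth n, v ∈ S → ∀ c : ℝ, 0 < c → w.1 = c • v.1 → w ∈ S) :
    IsClosed (Fan.P.mk (F := yo.{u} n) (ULift.up (𝟙 n)) '' S) := by
  rw [isClosed_iff]
  rintro k ⟨φ⟩
  have : Fan.P.mk (F := yo.{u} n) (ULift.up φ) ⁻¹'
      (Fan.P.mk (F := yo.{u} n) (ULift.up (𝟙 n)) '' S) = omap φ ⁻¹' S := by
    ext y
    simp only [Set.mem_preimage, Set.mem_image]
    constructor
    · rintro ⟨v, hv, h⟩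
      obtain ⟨c, hc, h'⟩ := (yo_mk_eq_iff (𝟙 n) φ v y).mp h
      rw [realMap_id] at h'
      exact hsat v (omap φ y) hv c hc h'
    · intro h
      exact ⟨omap φ y, h, (yo_mk_eq_id φ y).symm⟩
  rw [this]
  exact hS.preimage (continuous_omap φ)

theorem isClosed_image_mk (hF : F.IsQuasiSeparated) {n : ICone} (ξ : F.obj (op n))
    (S : Set (Fan.Orth n)) (hS : IsClosed S)
    (hsat : ∀ v w : Fan.Orth n, v ∈ S → ∀ c : ℝ, 0 < c → w.1 = c • v.1 → w ∈ S) :
    IsClosed (Fan.P.mk ξ '' S) := by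
  have h1 := isClosedMap_map (Fan.coneMap ξ) (isBoundedMap_coneMap hF ξ) _
    (isClosed_yo_image S hS hsat)
  rw [Set.image_image] at h1
  have : (fun v => Fan.P.map (Fan.coneMap ξ) (Fan.P.mk (F := yo.{u} n) (ULift.up (𝟙 n)) v)) =
      Fan.P.mk ξ := funext fun v => map_coneMap_mk ξ v
  rw [this] at h1
  exact h1

theorem isClosed_cell (hF : F.IsQuasiSeparated) {n : ICone} (ξ : F.obj (op n)) :
    IsClosed (Fan.P.cell ξ) := by
  have := isClosed_image_mk hF ξ Set.univ isClosed_univ (fun _ _ _ _ _ _ => Set.mem_univ _)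
  rw [Set.image_univ] at this
  exact this

theorem isClosed_iff_cell (hF : F.IsQuasiSeparated) (S : Set (Fan.P F)) :
    IsClosed S ↔ ∀ (n : ICone) (ξ : F.obj (op n)), IsClosed (S ∩ Fan.P.cell ξ) := by
  constructor
  · intro h n ξ
    exact h.inter (isClosed_cell hF ξ)
  · intro h
    rw [isClosed_iff]
    intro n ξ
    have : Fan.P.mk ξ ⁻¹' S = Fan.P.mk ξ ⁻¹' (S ∩ Fan.P.cell ξ) := by
      ext v
      simp only [Set.mem_preimage, Set.mem_inter_iff]
      exact ⟨fun hv => ⟨hv, ⟨v, rfl⟩⟩, fun hv => hv.1⟩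
    rw [this]
    exact (h n ξ).preimage (continuous_mk ξ)

/-- two nonnegative nonzero vectors with vanishing 2×2 minors are positively proportional -/
theorem exists_pos_smul_of_minors {n : ICone} (a b : Fan.Orth n)
    (h : ∀ i j, a.1 i * b.1 j = a.1 j * b.1 i) : ∃ c : ℝ, 0 < c ∧ a.1 = c • b.1 := by
  obtain ⟨j₀, hj₀⟩ : ∃ j, b.1 j ≠ 0 := by
    by_contra hcon
    push Not at hcon
    exact b.2.2 (funext hcon)
  have hbpos : 0 < b.1 j₀ := lt_of_le_of_ne (b.2.1 j₀) (Ne.symm hj₀)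
  have h1 : ∀ i, a.1 i = (a.1 j₀ / b.1 j₀) * b.1 i := by
    intro i
    have := h i j₀
    field_simp
    linarith
  have h2 : a.1 j₀ ≠ 0 := by
    intro h0
    apply a.2.2
    funext i
    rw [h1 i, h0, zero_div, zero_mul]
    rfl
  have hapos : 0 < a.1 j₀ := lt_of_le_of_ne (a.2.1 j₀) (Ne.symm h2)
  exact ⟨a.1 j₀ / b.1 j₀, div_pos hapos hbpos, funext h1⟩

theorem isClosed_prop_set {k n n' : ICone} (φ : k ⟶ n) (φ' : k ⟶ n) :
    IsClosed {y : Fan.Orth k | ∃ c : ℝ, 0 < c ∧ φ.realMap y.1 = c • φ'.realMap y.1} := by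
  have : {y : Fan.Orth k | ∃ c : ℝ, 0 < c ∧ φ.realMap y.1 = c • φ'.realMap y.1} =
      ⋂ i, ⋂ j, {y : Fan.Orth k |
        φ.realMap y.1 i * φ'.realMap y.1 j = φ.realMap y.1 j * φ'.realMap y.1 i} := by
    ext y
    simp only [Set.mem_ofPred_eq, Set.mem_iInter]
    constructor
    · rintro ⟨c, _, hc⟩ i j
      rw [hc]
      simp only [Pi.smul_apply, smul_eq_mul]
      ring
    · intro h
      exact exists_pos_smul_of_minors (omap φ y) (omap φ' y) h
  rw [this]
  apply isClosed_iInter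
  intro i
  apply isClosed_iInter
  intro j
  have hc : ∀ (χ : k ⟶ n) (l : Fin n.dim), Continuous fun y : Fan.Orth k => χ.realMap y.1 l :=
    fun χ l => (continuous_apply l).comp ((continuous_realMap χ).comp continuous_subtype_val)
  exact isClosed_eq ((hc φ i).mul (hc φ' j)) ((hc φ j).mul (hc φ' i))

theorem injective_iff_rational (ψ : F ⟶ G) (hF : F.IsQuasiSeparated) :
    Function.Injective (Fan.P.map ψ) ↔
      ∀ x y : Fan.P F, x.IsRational → y.IsRational → Fan.P.map ψ x = Fan.P.map ψ y → x = y := by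
  constructor
  · intro h x y _ _ hxy
    exact h hxy
  · intro h x x' hxx'
    obtain ⟨n, σ, v, rfl⟩ := P.mk_surjective x
    obtain ⟨n', σ', v', rfl⟩ := P.mk_surjective x'
    rw [P.map_mk, P.map_mk, mk_eq_iff] at hxx'
    obtain ⟨k, φ₁, φ₂, y, c₁, c₂, h1, hc₁, hc₂, hv, hv'⟩ := hxx'
    rw [← mk_map_eq φ₁ σ y v c₁ hc₁ hv, ← mk_map_eq φ₂ σ' y v' c₂ hc₂ hv']
    set τ := F.map φ₁.op σ with hτ
    set τ' := F.map φ₂.op σ' with hτ'
    have hψτ : ψ.app _ τ = ψ.app _ τ' := by
      have e1 := NatTrans.naturality_apply ψ φ₁.op σ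
      have e2 := NatTrans.naturality_apply ψ φ₂.op σ'
      rw [hτ, hτ', e1, e2]
      exact h1
    -- the coincidence set
    obtain ⟨s, hs1, hs2⟩ := exists_finset_pairs τ τ' hF
    let E : Set (Fan.Orth k) := {w | Fan.P.mk τ w = Fan.P.mk τ' w}
    have hE : E = ⋃ e ∈ s, {w : Fan.Orth k | ∃ z ∈ {z : Fan.Orth e.1 | ∃ c : ℝ, 0 < c ∧
        e.2.1.realMap z.1 = c • e.2.2.realMap z.1}, w.1 = e.2.1.realMap z.1} := by
      ext w
      simp only [E, Set.mem_ofPred_eq, Set.mem_iUnion, exists_prop]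
      rw [hs2 w w]
      constructor
      · rintro ⟨e, he, z, c, c', hc, hc', hw, hw'⟩
        have hcz : (∀ i, 0 ≤ (c • z.1) i) ∧ c • z.1 ≠ 0 := by
          constructor
          · intro i; exact mul_nonneg hc.le (z.2.1 i)
          · intro h0
            apply z.2.2
            have := congrArg (fun t => c⁻¹ • t) h0
            simpa [smul_smul, inv_mul_cancel₀ hc.ne'] using this
        refine ⟨e, he, ⟨c • z.1, hcz⟩, ⟨c' / c, div_pos hc' hc, ?_⟩, ?_⟩
        · change e.2.1.realMap (c • z.1) = (c' / c) • e.2.2.realMap (c • z.1)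
          rw [realMap_smul, realMap_smul, smul_smul, div_mul_cancel₀ _ hc.ne', ← hw, ← hw']
        · change w.1 = e.2.1.realMap (c • z.1)
          rw [realMap_smul, hw]
      · rintro ⟨e, he, z, ⟨c, hc, hz⟩, hw⟩
        refine ⟨e, he, z, 1, c, one_pos, hc, by rw [one_smul, hw], ?_⟩
        rw [hw, hz]
    have hEcl : IsClosed E := by
      rw [hE]
      apply Set.Finite.isClosed_biUnion s.finite_toSet
      intro e _
      exact isClosed_omap_image _ _ (isClosed_prop_set (n' := k) e.2.1 e.2.2)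
    have : y ∈ E := by
      apply mem_of_isClosed_of_rational E hEcl
      intro w hw hw0 c hc u hu
      apply h _ _ (isRational_mk_of_int τ w hw hw0 c hc u hu)
        (isRational_mk_of_int τ' w hw hw0 c hc u hu)
      rw [P.map_mk, P.map_mk, hψτ]
    exact this

end Groth.Agent.Lib27.Fan
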