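import Groth.Agent.Lib27.Fan.Bdd2

/-!
# Quasi-separated fans and bounded maps (helper27)
-/

set_option autoImplicit false
universe u
open CategoryTheory Opposite Instab Finset Filter Topology

namespace Groth.Agent.Lib27.Fan

theorem isQuasiSeparated_iff (G : Fan.{u}) :
    G.IsQuasiSeparated ↔
      ∀ (F : Fan.{u}) (f : F ⟶ G), F.IsBounded → Fan.IsBoundedMap f := by
  classical
  constructor
  · rintro hG F f ⟨s, hs⟩ n σ
    have hb : ∀ e : (Σ k : ICone, F.obj (op k)),
        Fan.IsBounded (Limits.pullback (Fan.coneMap (f.app _ e.2)) (Fan.coneMap σ)) :=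
      fun e => hG _ _ _ _
    choose t ht using hb
    let j : ∀ e : (Σ k : ICone, F.obj (op k)),
        Limits.pullback (Fan.coneMap (f.app _ e.2)) (Fan.coneMap σ) ⟶
          Limits.pullback f (Fan.coneMap σ) := fun e =>
      Limits.pullback.lift (Limits.pullback.fst _ _ ≫ Fan.coneMap e.2) (Limits.pullback.snd _ _)
        (by rw [Category.assoc, coneMap_comp, Limits.pullback.condition])
    have hj1 : ∀ e, j e ≫ Limits.pullback.fst _ _ = Limits.pullback.fst _ _ ≫ Fan.coneMap e.2 :=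
      fun e => Limits.pullback.lift_fst _ _ _
    have hj2 : ∀ e, j e ≫ Limits.pullback.snd _ _ = Limits.pullback.snd _ _ :=
      fun e => Limits.pullback.lift_snd _ _ _
    refine ⟨s.biUnion (fun e => (t e).image (fun d => ⟨d.1, (j e).app _ d.2⟩)), ?_⟩
    intro x
    obtain ⟨k, ρ, v, rfl⟩ := P.mk_surjective x
    obtain ⟨e, he, w, hw⟩ := hs (Fan.P.mk (qfst f σ ρ) v)
    obtain ⟨m, α, β, z, a, b, h1, ha, hb, hv, hw'⟩ :=
      (mk_eq_iff (qfst f σ ρ) e.2 v w).mp hw.symm
    have hcompat : G.map β.op (f.app _ e.2) = G.map (α ≫ qsnd f σ ρ).op σ := by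
      have e1 := NatTrans.naturality_apply f β.op e.2
      have e2 := NatTrans.naturality_apply f α.op (qfst f σ ρ)
      rw [← e1, ← h1, e2, qfst_qsnd, ← map_comp_op]
    obtain ⟨ρ', hρ'1, hρ'2⟩ := exists_pullback_elt (Fan.coneMap (f.app _ e.2)) (Fan.coneMap σ)
      (ULift.up β) (ULift.up (α ≫ qsnd f σ ρ)) hcompat
    have hjρ' : (j e).app _ ρ' = (Limits.pullback f (Fan.coneMap σ)).map α.op ρ := by
      apply pullback_elt_ext
      · have e1 := congrArg (fun t => t.app (op m) ρ') (hj1 e)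
        have e1' : (Limits.pullback.fst f (Fan.coneMap σ)).app _ ((j e).app _ ρ') =
            (Fan.coneMap e.2).app _ ((Limits.pullback.fst (Fan.coneMap (f.app _ e.2))
              (Fan.coneMap σ)).app _ ρ') := e1
        rw [e1', hρ'1, coneMap_app]
        have e2 := NatTrans.naturality_apply (Limits.pullback.fst f (Fan.coneMap σ)) α.op ρ
        rw [e2]
        exact h1.symm
      · have e1 := congrArg (fun t => t.app (op m) ρ') (hj2 e)
        have e1' : (Limits.pullback.snd f (Fan.coneMap σ)).app _ ((j e).app _ ρ') =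
            (Limits.pullback.snd (Fan.coneMap (f.app _ e.2)) (Fan.coneMap σ)).app _ ρ' := e1
        rw [e1', hρ'2]
        have e2 := NatTrans.naturality_apply (Limits.pullback.snd f (Fan.coneMap σ)) α.op ρ
        rw [e2]
        rfl
    obtain ⟨d, hd, z', hz'⟩ := ht e (Fan.P.mk ρ' z)
    refine ⟨⟨d.1, (j e).app _ d.2⟩, ?_, z', ?_⟩
    · exact Finset.mem_biUnion.mpr ⟨e, he, Finset.mem_image.mpr ⟨d, hd, rfl⟩⟩
    · have e3 := congrArg (Fan.P.map (j e)) hz'
      rw [P.map_mk, P.map_mk, hjρ'] at e3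
      rw [e3]
      exact mk_map_eq α ρ z v a ha hv
  · intro h n₀ n₁ σ₀ σ₁
    exact h (yo.{u} n₀) (Fan.coneMap σ₀) (yo_isBounded n₀) n₁ σ₁

end Groth.Agent.Lib27.Fan
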