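import Groth.Agent.Lib27.Fan.IntLin

/-!
# Finitely generated rational cones: Carathéodory, closedness (helper27)
-/

set_option autoImplicit false
open Finset Filter Topology

namespace Groth.Agent.Lib27.Fan

variable {N : ℕ}

/-- an integer vector as a real vector -/
def castV (g : Fin N → ℤ) : Fin N → ℝ := fun j => (g j : ℝ)

/-- the cone spanned by a finite set of integer vectors -/
def fcone (T : Finset (Fin N → ℤ)) : Set (Fin N → ℝ) :=
  {x | ∃ c : (Fin N → ℤ) → ℝ, (∀ g, 0 ≤ c g) ∧ x = Finset.sum T fun g => c g • fun j => (g j : ℝ)}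

/-- real linear independence of a finite set of integer vectors -/
def Indep (T : Finset (Fin N → ℤ)) : Prop :=
  ∀ d : (Fin N → ℤ) → ℝ, ∑ g ∈ T, d g • castV g = 0 → ∀ g ∈ T, d g = 0

theorem exists_indep_subset (T : Finset (Fin N → ℤ)) (c : (Fin N → ℤ) → ℝ) (hc : ∀ g, 0 ≤ c g) :
    ∃ (T' : Finset (Fin N → ℤ)) (c' : (Fin N → ℤ) → ℝ), T' ⊆ T ∧ (∀ g, 0 ≤ c' g) ∧
      (∀ g ∈ T', 0 < c' g) ∧
      ∑ g ∈ T', c' g • castV g = ∑ g ∈ T, c g • castV g ∧ Indep T' := by
  classical
  induction' hn : T.card using Nat.strong_induction_on with n ih generalizing T c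
  let T₀ := T.filter (fun g => 0 < c g)
  have hsum₀ : ∑ g ∈ T₀, c g • castV g = ∑ g ∈ T, c g • castV g := by
    rw [Finset.sum_filter]
    apply Finset.sum_congr rfl
    intro g _
    split_ifs with h
    · rfl
    · have : c g = 0 := le_antisymm (not_lt.mp h) (hc g)
      rw [this, zero_smul]
  by_cases hind : Indep T₀
  · exact ⟨T₀, c, Finset.filter_subset _ _, hc, fun g hg => (Finset.mem_filter.mp hg).2, hsum₀, hind⟩
  · unfold Indep at hind
    push Not at hind
    obtain ⟨d₀, hd0, g₀, hg₀, hdg₀⟩ := hind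
    -- choose the sign
    obtain ⟨d, hd, hdpos⟩ : ∃ d : (Fin N → ℤ) → ℝ, ∑ g ∈ T₀, d g • castV g = 0 ∧ 0 < d g₀ := by
      rcases lt_or_gt_of_ne hdg₀ with h | h
      · refine ⟨fun g => - d₀ g, ?_, by simpa using h⟩
        simp only [neg_smul, Finset.sum_neg_distrib, hd0, neg_zero]
      · exact ⟨d₀, hd0, h⟩
    let P := T₀.filter (fun g => 0 < d g)
    have hP : P.Nonempty := ⟨g₀, Finset.mem_filter.mpr ⟨hg₀, hdpos⟩⟩
    obtain ⟨g₁, hg₁P, hmin⟩ := Finset.exists_min_image P (fun g => c g / d g) hP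
    have hg₁T₀ : g₁ ∈ T₀ := (Finset.mem_filter.mp hg₁P).1
    have hdg₁ : 0 < d g₁ := (Finset.mem_filter.mp hg₁P).2
    have hcg₁ : 0 < c g₁ := (Finset.mem_filter.mp hg₁T₀).2
    set t := c g₁ / d g₁ with ht
    have htpos : 0 < t := div_pos hcg₁ hdg₁
    let c₂ : (Fin N → ℤ) → ℝ := fun g => if g ∈ T₀ then c g - t * d g else 0
    have hc₂ : ∀ g, 0 ≤ c₂ g := by
      intro g
      change 0 ≤ if g ∈ T₀ then c g - t * d g else 0
      split_ifs with hg
      · by_cases hdg : 0 < d g
        · have h1 := hmin g (Finset.mem_filter.mpr ⟨hg, hdg⟩)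
          change t ≤ c g / d g at h1
          rw [le_div_iff₀ hdg] at h1
          linarith
        · have h1 : d g ≤ 0 := not_lt.mp hdg
          have h2 : 0 < c g := (Finset.mem_filter.mp hg).2
          nlinarith
      · exact le_refl 0
    have hc₂g₁ : c₂ g₁ = 0 := by
      change (if g₁ ∈ T₀ then c g₁ - t * d g₁ else 0) = 0
      rw [if_pos hg₁T₀, ht, div_mul_cancel₀ _ hdg₁.ne', sub_self]
    have hsum₂ : ∑ g ∈ T₀.erase g₁, c₂ g • castV g = ∑ g ∈ T, c g • castV g := by
      have h3 : ∑ g ∈ T₀, c₂ g • castV g =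
          ∑ g ∈ T₀, c g • castV g - t • ∑ g ∈ T₀, d g • castV g := by
        rw [Finset.smul_sum, ← Finset.sum_sub_distrib]
        apply Finset.sum_congr rfl
        intro g hg
        change (if g ∈ T₀ then c g - t * d g else 0) • castV g = _
        rw [if_pos hg, sub_smul, mul_smul]
      have h4 : ∑ g ∈ T₀, c₂ g • castV g = ∑ g ∈ T₀.erase g₁, c₂ g • castV g := by
        rw [← Finset.add_sum_erase T₀ (fun g => c₂ g • castV g) hg₁T₀, hc₂g₁, zero_smul, zero_add]
      rw [← h4, h3, hd, smul_zero, sub_zero, hsum₀]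
    have hcard : (T₀.erase g₁).card < n := by
      rw [← hn]
      calc (T₀.erase g₁).card < T₀.card := Finset.card_erase_lt_of_mem hg₁T₀
        _ ≤ T.card := Finset.card_filter_le _ _
    obtain ⟨T', c', hT', hc'0, hc', hsum', hind'⟩ := ih _ hcard (T₀.erase g₁) c₂ hc₂ rfl
    exact ⟨T', c', hT'.trans ((Finset.erase_subset _ _).trans (Finset.filter_subset _ _)), hc'0, hc',
      hsum'.trans hsum₂, hind'⟩

theorem fcone_mono {T' T : Finset (Fin N → ℤ)} (h : T' ⊆ T) : fcone T' ⊆ fcone T := by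
  classical
  rintro x ⟨c, hc, rfl⟩
  refine ⟨fun g => if g ∈ T' then c g else 0, fun g => by
    dsimp only
    split_ifs
    · exact hc g
    · exact le_refl 0, ?_⟩
  rw [← Finset.sum_subset h]
  · apply Finset.sum_congr rfl
    intro g hg
    dsimp only
    rw [if_pos hg]
  · intro g _ hg
    dsimp only
    rw [if_neg hg, zero_smul]

theorem fcone_smul (T : Finset (Fin N → ℤ)) (x : Fin N → ℝ) (hx : x ∈ fcone T) (t : ℝ)
    (ht : 0 ≤ t) : t • x ∈ fcone T := by
  obtain ⟨c, hc, rfl⟩ := hx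
  refine ⟨fun g => t * c g, fun g => mul_nonneg ht (hc g), ?_⟩
  rw [Finset.smul_sum]
  apply Finset.sum_congr rfl
  intro g _
  rw [mul_smul]

theorem isClosed_fcone_of_indep (T : Finset (Fin N → ℤ)) (h : Indep T) : IsClosed (fcone T) := by
  classical
  let Λ : (T → ℝ) →ₗ[ℝ] (Fin N → ℝ) := Fintype.linearCombination ℝ (fun g : T => castV g.1)
  have hΛ : ∀ c : T → ℝ, Λ c = ∑ g : T, c g • castV g.1 := fun c =>
    Fintype.linearCombination_apply ℝ _ c
  have hinj : LinearMap.ker Λ = ⊥ := by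
    rw [LinearMap.ker_eq_bot']
    intro c hc
    rw [hΛ] at hc
    let d : (Fin N → ℤ) → ℝ := fun g => if hg : g ∈ T then c ⟨g, hg⟩ else 0
    have h1 : ∑ g ∈ T, d g • castV g = 0 := by
      rw [← hc, ← Finset.sum_coe_sort T]
      apply Finset.sum_congr rfl
      intro g _
      change (if hg : g.1 ∈ T then c ⟨g.1, hg⟩ else 0) • castV g.1 = _
      rw [dif_pos g.2]
    funext g
    have := h d h1 g.1 g.2
    change (if hg : g.1 ∈ T then c ⟨g.1, hg⟩ else 0) = 0 at this
    rw [dif_pos g.2] at this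
    exact this
  have hemb := LinearMap.isClosedEmbedding_of_injective hinj
  have hcl : IsClosed {c : T → ℝ | ∀ g, 0 ≤ c g} := by
    have : {c : T → ℝ | ∀ g, 0 ≤ c g} = ⋂ g, {c | 0 ≤ c g} := by ext c; simp
    rw [this]
    exact isClosed_iInter fun g => isClosed_le continuous_const (continuous_apply g)
  have himg : fcone T = Λ '' {c : T → ℝ | ∀ g, 0 ≤ c g} := by
    ext x
    constructor
    · rintro ⟨c, hc, rfl⟩
      refine ⟨fun g => c g.1, fun g => hc g.1, ?_⟩
      rw [hΛ]
      exact Finset.sum_coe_sort T (fun g => c g • castV g)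
    · rintro ⟨c, hc, rfl⟩
      refine ⟨fun g => if hg : g ∈ T then c ⟨g, hg⟩ else 0, fun g => by
        dsimp only
        split_ifs with hg
        · exact hc _
        · exact le_refl 0, ?_⟩
      rw [hΛ, ← Finset.sum_coe_sort T]
      apply Finset.sum_congr rfl
      intro g _
      dsimp only
      rw [dif_pos g.2]
      rfl
  rw [himg]
  exact hemb.isClosedMap _ hcl

theorem isClosed_fcone (T : Finset (Fin N → ℤ)) : IsClosed (fcone T) := by
  classical
  have h : fcone T = ⋃ T' ∈ T.powerset.filter (fun T' => Indep T'), fcone T' := by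
    ext x
    simp only [Set.mem_iUnion, Finset.mem_filter, Finset.mem_powerset, exists_prop]
    constructor
    · rintro ⟨c, hc, rfl⟩
      obtain ⟨T', c', hT', hc'0, _, hsum, hind⟩ := exists_indep_subset T c hc
      exact ⟨T', ⟨hT', hind⟩, c', hc'0, hsum.symm⟩
    · rintro ⟨T', ⟨hT', _⟩, hx⟩
      exact fcone_mono hT' hx
  rw [h]
  apply Set.Finite.isClosed_biUnion (Finset.finite_toSet _)
  intro T' hT'
  exact isClosed_fcone_of_indep T' (Finset.mem_filter.mp hT').2

end Groth.Agent.Lib27.Fan
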