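import Groth.Agent.Lib27.Fan.Lin2

/-!
# Integral simplicial decomposition of a nonnegative real vector (helper27)
-/

set_option autoImplicit false
open Finset

namespace Groth.Agent.Lib27.Fan.Lin

theorem exists_integral_decomposition {ι : Type} [Fintype ι] (p : ι → ℝ) (hp : p ≠ 0) :
    ∃ (m : ℕ) (_ : 0 < m) (G : Fin m → ι → ℤ) (t : Fin m → ℝ),
      (∀ i, 0 ≤ t i) ∧ (∀ j, p j = ∑ i, t i * (G i j : ℝ)) ∧
      (∀ i j, 0 < p j → 0 < G i j) ∧
      (∀ w : ι → ℤ, ∑ j, (w j : ℝ) * p j = 0 → ∀ i, ∑ j, w j * G i j = 0) ∧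
      (∀ x : Fin m → ℤ, (∀ j, ∑ i, x i * G i j = 0) → x = 0) := by
  classical
  obtain ⟨m, hm, g, t, ht0, hpt, hgpos, hrel, hind⟩ := exists_rational_decomposition p hp
  let D : ℕ := ∏ i, ∏ j, (g i j).den
  have hD : 0 < D := Finset.prod_pos fun i _ => Finset.prod_pos fun j _ => (g i j).den_pos
  have hdvd : ∀ i j, (g i j).den ∣ D := fun i j =>
    (Finset.dvd_prod_of_mem _ (Finset.mem_univ j)).trans
      (Finset.dvd_prod_of_mem (fun i => ∏ j, (g i j).den) (Finset.mem_univ i))
  let E : Fin m → ι → ℕ := fun i j => D / (g i j).den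
  have hE : ∀ i j, E i j * (g i j).den = D := fun i j => Nat.div_mul_cancel (hdvd i j)
  let G : Fin m → ι → ℤ := fun i j => (g i j).num * (E i j : ℤ)
  have hG : ∀ i j, ((G i j : ℤ) : ℚ) = D * g i j := by
    intro i j
    change (((g i j).num * (E i j : ℤ) : ℤ) : ℚ) = _
    push_cast
    have h1 : ((g i j).den : ℚ) ≠ 0 := by exact_mod_cast (g i j).den_pos.ne'
    have h2 : (D : ℚ) = (E i j : ℚ) * (g i j).den := by exact_mod_cast (hE i j).symm
    conv_rhs => rw [← Rat.num_div_den (g i j), h2]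
    field_simp
  have hDq : (0 : ℚ) < D := by exact_mod_cast hD
  have hDr : (0 : ℝ) < D := by exact_mod_cast hD
  have hGr : ∀ i j, ((G i j : ℤ) : ℝ) = D * (g i j : ℝ) := by
    intro i j
    have := hG i j
    have h2 : (((G i j : ℤ) : ℚ) : ℝ) = ((D * g i j : ℚ) : ℝ) := by rw [this]
    push_cast at h2
    exact h2
  refine ⟨m, hm, G, fun i => t i / D, fun i => div_nonneg (ht0 i) hDr.le, ?_, ?_, ?_, ?_⟩
  · intro j
    rw [hpt j]
    apply Finset.sum_congr rfl
    intro i _
    rw [hGr]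
    field_simp
  · intro i j hj
    have h1 := hgpos i j hj
    have h2 : (0 : ℚ) < (G i j : ℤ) := by rw [hG]; positivity
    exact_mod_cast h2
  · intro w hw i
    have h1 := hrel (fun j => (w j : ℚ)) (by simpa using hw) i
    have h2 : ((∑ j, w j * G i j : ℤ) : ℚ) = D * ∑ j, (w j : ℚ) * g i j := by
      push_cast
      rw [Finset.mul_sum]
      apply Finset.sum_congr rfl
      intro j _
      rw [hG]
      ring
    rw [h1, mul_zero] at h2
    exact_mod_cast h2
  · intro x hx
    have h1 : (fun i => (x i : ℚ)) = 0 := by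
      apply hind
      intro j
      have h2 : ((∑ i, x i * G i j : ℤ) : ℚ) = D * ∑ i, (x i : ℚ) * g i j := by
        push_cast
        rw [Finset.mul_sum]
        apply Finset.sum_congr rfl
        intro i _
        rw [hG]
        ring
      rw [hx j] at h2
      have h3 : (D : ℚ) * ∑ i, (x i : ℚ) * g i j = 0 := by rw [← h2]; simp
      exact (mul_eq_zero.mp h3).resolve_left hDq.ne'
    funext i
    have h5 : ((x i : ℤ) : ℚ) = 0 := congrFun h1 i
    exact_mod_cast h5

end Groth.Agent.Lib27.Fan.Lin
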