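import Groth.Prelude.Def_W4c6instabfans3Fan
import Groth.Agent.Lib27.Fan.Lin3

/-!
# Formal fans: cone morphisms as matrices, common refinements (helper27)
-/

set_option autoImplicit false
universe u
open CategoryTheory Opposite Instab Finset

namespace Groth.Agent.Lib27.Fan

variable {k n m : ICone}

/-- matrix entries of a cone morphism -/
def ent (φ : k ⟶ n) (j : Fin n.dim) (i : Fin k.dim) : ℤ := φ.toLin (Pi.single i 1) j

theorem toLin_apply (φ : k ⟶ n) (v : Fin k.dim → ℤ) (j : Fin n.dim) :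
    φ.toLin v j = ∑ i, ent φ j i * v i := by
  have h := LinearMap.pi_apply_eq_sum_univ φ.toLin v
  rw [h, Finset.sum_apply]
  apply Finset.sum_congr rfl
  intro i _
  rw [Pi.smul_apply, smul_eq_mul, mul_comm]
  unfold ent
  have e : (fun j => if i = j then (1:ℤ) else 0) = Pi.single i 1 := by
    funext l
    by_cases hl : i = l
    · subst hl; simp
    · simp [hl, Pi.single_apply, Ne.symm hl]
  rw [e]

theorem realMap_apply (φ : k ⟶ n) (v : Fin k.dim → ℝ) (j : Fin n.dim) :
    φ.realMap v j = ∑ i, (ent φ j i : ℝ) * v i := rfl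

theorem comp_toLin (α : m ⟶ k) (φ : k ⟶ n) : (α ≫ φ).toLin = φ.toLin.comp α.toLin := rfl

theorem id_toLin : (𝟙 n : n ⟶ n).toLin = LinearMap.id := rfl

theorem ent_comp (α : m ⟶ k) (φ : k ⟶ n) (j : Fin n.dim) (i : Fin m.dim) :
    ent (α ≫ φ) j i = ∑ l, ent φ j l * ent α l i := by
  unfold ent
  rw [comp_toLin, LinearMap.comp_apply, toLin_apply]
  rfl

theorem ent_id (j i : Fin n.dim) : ent (𝟙 n) j i = if j = i then 1 else 0 := by
  unfold ent
  rw [id_toLin, LinearMap.id_apply, Pi.single_apply]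

theorem realMap_comp (α : m ⟶ k) (φ : k ⟶ n) (v : Fin m.dim → ℝ) :
    (α ≫ φ).realMap v = φ.realMap (α.realMap v) := by
  funext j
  rw [realMap_apply, realMap_apply]
  simp_rw [realMap_apply, ent_comp, Finset.mul_sum]
  push_cast
  simp_rw [Finset.sum_mul]
  rw [Finset.sum_comm]
  apply Finset.sum_congr rfl
  intro l _
  apply Finset.sum_congr rfl
  intro i _
  ring

theorem realMap_id (v : Fin n.dim → ℝ) : (𝟙 n : n ⟶ n).realMap v = v := by
  funext j
  rw [realMap_apply]
  simp_rw [ent_id]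
  rw [Finset.sum_eq_single j]
  · simp
  · intro i _ hi
    rw [if_neg (Ne.symm hi)]
    simp
  · intro h; exact absurd (Finset.mem_univ j) h

theorem realMap_smul (φ : k ⟶ n) (c : ℝ) (v : Fin k.dim → ℝ) :
    φ.realMap (c • v) = c • φ.realMap v := by
  funext j
  rw [Pi.smul_apply, realMap_apply, realMap_apply, smul_eq_mul, Finset.mul_sum]
  apply Finset.sum_congr rfl
  intro i _
  rw [Pi.smul_apply, smul_eq_mul]
  ring

theorem ent_nonneg (φ : k ⟶ n) (j : Fin n.dim) (i : Fin k.dim) : 0 ≤ ent φ j i := by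
  unfold ent
  apply φ.nonneg
  intro l
  rw [Pi.single_apply]
  split_ifs <;> norm_num

theorem realMap_nonneg (φ : k ⟶ n) (v : Fin k.dim → ℝ) (hv : ∀ i, 0 ≤ v i) (j : Fin n.dim) :
    0 ≤ φ.realMap v j := by
  rw [realMap_apply]
  apply Finset.sum_nonneg
  intro i _
  exact mul_nonneg (by exact_mod_cast ent_nonneg φ j i) (hv i)

/-- a cone morphism from a matrix -/
def ofMat {a b : ℕ} (ha : 0 < a) (hb : 0 < b) (G : Fin a → Fin b → ℤ) (hG : ∀ i l, 0 ≤ G i l)
    (hinj : ∀ x : Fin a → ℤ, (∀ l, ∑ i, G i l * x i = 0) → x = 0) :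
    (⟨⟨a, ha⟩⟩ : ICone) ⟶ (⟨⟨b, hb⟩⟩ : ICone) where
  toLin :=
    { toFun := fun x l => ∑ i, G i l * x i
      map_add' := by
        intro x y
        funext l
        simp only [Pi.add_apply, mul_add, Finset.sum_add_distrib]
      map_smul' := by
        intro c x
        funext l
        simp only [Pi.smul_apply, smul_eq_mul, RingHom.id_apply, Finset.mul_sum]
        apply Finset.sum_congr rfl
        intro i _
        ring }
  injective := by
    intro x y hxy
    have h1 : x - y = 0 := by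
      apply hinj
      intro l
      have := congrFun hxy l
      change ∑ i, G i l * x i = ∑ i, G i l * y i at this
      simp only [Pi.sub_apply, mul_sub, Finset.sum_sub_distrib, this, sub_self]
    exact sub_eq_zero.mp h1
  nonneg := by
    intro v hv l
    change 0 ≤ ∑ i, G i l * v i
    exact Finset.sum_nonneg fun i _ => mul_nonneg (hG i l) (hv i)

theorem ofMat_toLin_apply {a b : ℕ} (ha : 0 < a) (hb : 0 < b) (G : Fin a → Fin b → ℤ) (hG hinj)
    (x : Fin a → ℤ) (l : Fin b) :
    (ofMat ha hb G hG hinj).toLin x l = ∑ i, G i l * x i := rfl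

theorem ent_ofMat {a b : ℕ} (ha : 0 < a) (hb : 0 < b) (G : Fin a → Fin b → ℤ) (hG hinj)
    (l : Fin b) (i : Fin a) : ent (ofMat ha hb G hG hinj) l i = G i l := by
  unfold ent
  rw [ofMat_toLin_apply]
  rw [Finset.sum_eq_single i]
  · simp
  · intro i' _ hi'
    simp [hi']
  · intro h; exact absurd (Finset.mem_univ i) h

end Groth.Agent.Lib27.Fan
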