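import Groth.Agent.Lib27.Fan.Repr

/-!
# Real extension of integer linear maps; general common refinement (helper27)
-/

set_option autoImplicit false
universe u
open CategoryTheory Opposite Instab Finset Filter Topology

namespace Groth.Agent.Lib27.Fan

section Gen

variable {a b d : ℕ}

/-- matrix entries of an integer linear map -/
def mat (L : (Fin a → ℤ) →ₗ[ℤ] (Fin b → ℤ)) (j : Fin b) (i : Fin a) : ℤ := L (Pi.single i 1) j

theorem lin_apply (L : (Fin a → ℤ) →ₗ[ℤ] (Fin b → ℤ)) (v : Fin a → ℤ) (j : Fin b) :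
    L v j = ∑ i, mat L j i * v i := by
  have h := LinearMap.pi_apply_eq_sum_univ L v
  rw [h, Finset.sum_apply]
  apply Finset.sum_congr rfl
  intro i _
  rw [Pi.smul_apply, smul_eq_mul, mul_comm]
  unfold mat
  have e : (fun j => if i = j then (1:ℤ) else 0) = Pi.single i 1 := by
    funext l
    by_cases hl : i = l
    · subst hl; simp
    · simp [hl, Pi.single_apply, Ne.symm hl]
  rw [e]

/-- the real extension of an integer linear map -/
def rext (L : (Fin a → ℤ) →ₗ[ℤ] (Fin b → ℤ)) (v : Fin a → ℝ) : Fin b → ℝ :=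
  fun j => ∑ i, (L (Pi.single i 1) j : ℝ) * v i

theorem rext_apply (L : (Fin a → ℤ) →ₗ[ℤ] (Fin b → ℤ)) (v : Fin a → ℝ) (j : Fin b) :
    rext L v j = ∑ i, (mat L j i : ℝ) * v i := rfl

theorem mat_comp (L : (Fin a → ℤ) →ₗ[ℤ] (Fin b → ℤ)) (M : (Fin d → ℤ) →ₗ[ℤ] (Fin a → ℤ))
    (j : Fin b) (i : Fin d) : mat (L.comp M) j i = ∑ l, mat L j l * mat M l i := by
  unfold mat
  rw [LinearMap.comp_apply, lin_apply]
  rfl

theorem rext_comp (L : (Fin a → ℤ) →ₗ[ℤ] (Fin b → ℤ)) (M : (Fin d → ℤ) →ₗ[ℤ] (Fin a → ℤ))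
    (v : Fin d → ℝ) : rext (L.comp M) v = rext L (rext M v) := by
  funext j
  rw [rext_apply, rext_apply]
  simp_rw [rext_apply, mat_comp, Finset.mul_sum]
  push_cast
  simp_rw [Finset.sum_mul]
  rw [Finset.sum_comm]
  apply Finset.sum_congr rfl
  intro l _
  apply Finset.sum_congr rfl
  intro i _
  ring

theorem rext_smul (L : (Fin a → ℤ) →ₗ[ℤ] (Fin b → ℤ)) (c : ℝ) (v : Fin a → ℝ) :
    rext L (c • v) = c • rext L v := by
  funext j
  rw [Pi.smul_apply, rext_apply, rext_apply, smul_eq_mul, Finset.mul_sum]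
  apply Finset.sum_congr rfl
  intro i _
  rw [Pi.smul_apply, smul_eq_mul]
  ring

theorem rext_add (L : (Fin a → ℤ) →ₗ[ℤ] (Fin b → ℤ)) (v w : Fin a → ℝ) :
    rext L (v + w) = rext L v + rext L w := by
  funext j
  rw [Pi.add_apply, rext_apply, rext_apply, rext_apply, ← Finset.sum_add_distrib]
  apply Finset.sum_congr rfl
  intro i _
  rw [Pi.add_apply]
  ring

/-- the real extension as a linear map -/
def rextLin (L : (Fin a → ℤ) →ₗ[ℤ] (Fin b → ℤ)) : (Fin a → ℝ) →ₗ[ℝ] (Fin b → ℝ) where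
  toFun := rext L
  map_add' := rext_add L
  map_smul' c v := rext_smul L c v

theorem rext_cast (L : (Fin a → ℤ) →ₗ[ℤ] (Fin b → ℤ)) (w : Fin a → ℤ) :
    rext L (fun i => (w i : ℝ)) = fun j => ((L w j : ℤ) : ℝ) := by
  funext j
  rw [rext_apply, lin_apply]
  push_cast
  rfl

theorem rext_eq_zero (L : (Fin a → ℤ) →ₗ[ℤ] (Fin b → ℤ)) (hL : Function.Injective L)
    (x : Fin a → ℝ) (hx : rext L x = 0) : x = 0 := by
  by_contra hx0
  obtain ⟨m, hm, G, t, ht0, hpt, hGpos, hrel, hind⟩ := Lin.exists_integral_decomposition x hx0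
  have hG : ∀ i, G i = 0 := by
    intro i
    apply hL
    rw [map_zero]
    funext j'
    rw [lin_apply]
    exact hrel (mat L j') (by
      have := congrFun hx j'
      rw [rext_apply] at this
      exact this) i
  apply hx0
  funext j
  rw [hpt j]
  simp [hG]

theorem rext_injective (L : (Fin a → ℤ) →ₗ[ℤ] (Fin b → ℤ)) (hL : Function.Injective L) :
    Function.Injective (rext L) := by
  intro v w h
  have h1 : rext L (v - w) = 0 := by
    have := (rextLin L).map_sub v w
    change rext L (v - w) = rext L v - rext L w at this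
    rw [this, h, sub_self]
  exact sub_eq_zero.mp (rext_eq_zero L hL _ h1)

theorem continuous_rext (L : (Fin a → ℤ) →ₗ[ℤ] (Fin b → ℤ)) : Continuous (rext L) :=
  (rextLin L).continuous_of_finiteDimensional

end Gen

theorem realMap_eq_rext {k n : ICone} (φ : k ⟶ n) (v : Fin k.dim → ℝ) :
    φ.realMap v = rext φ.toLin v := rfl

theorem exists_common_refinement_gen {k k' : ICone} {N : ℕ}
    (L : (Fin k.dim → ℤ) →ₗ[ℤ] (Fin N → ℤ)) (L' : (Fin k'.dim → ℤ) →ₗ[ℤ] (Fin N → ℤ))
    (hL : Function.Injective L) (hL' : Function.Injective L')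
    (y : Fan.Orth k) (y' : Fan.Orth k') (c c' : ℝ) (hc : 0 < c) (hc' : 0 < c')
    (h : c • rext L y.1 = c' • rext L' y'.1) :
    ∃ (m : ICone) (α : m ⟶ k) (β : m ⟶ k') (z : Fan.Orth m) (a b : ℝ),
      0 < a ∧ 0 < b ∧ L.comp α.toLin = L'.comp β.toLin ∧
        y.1 = a • α.realMap z.1 ∧ y'.1 = b • β.realMap z.1 := by
  classical
  let p : (Fin k.dim ⊕ Fin k'.dim) → ℝ := Sum.elim (c • y.1) (c' • y'.1)
  have hp0 : ∀ j, 0 ≤ p j := by
    rintro (l | l)
    · exact mul_nonneg hc.le (y.2.1 l)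
    · exact mul_nonneg hc'.le (y'.2.1 l)
  have hp : p ≠ 0 := by
    intro hp
    apply y.2.2
    funext l
    have := congrFun hp (Sum.inl l)
    change c * y.1 l = 0 at this
    rcases mul_eq_zero.mp this with h1 | h1
    · exact absurd h1 hc.ne'
    · exact h1
  obtain ⟨m, hm, G, t, ht0, hpt, hGpos, hrel, hind⟩ := Lin.exists_integral_decomposition p hp
  have hG0 : ∀ i j, 0 ≤ G i j := by
    intro i j
    rcases (hp0 j).lt_or_eq with h1 | h1
    · exact (hGpos i j h1).le
    · have h2 := hrel (Pi.single j 1) (by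
        rw [Finset.sum_eq_single j]
        · simp [← h1]
        · intro j' _ hj'
          simp [Pi.single_apply, hj']
        · intro hh; exact absurd (Finset.mem_univ j) hh) i
      rw [Finset.sum_eq_single j] at h2
      · simp at h2; rw [h2]
      · intro j' _ hj'
        simp [Pi.single_apply, hj']
      · intro hh; exact absurd (Finset.mem_univ j) hh
  have hrel2 : ∀ (j' : Fin N) (i : Fin m),
      ∑ l, mat L j' l * G i (Sum.inl l) = ∑ l, mat L' j' l * G i (Sum.inr l) := by
    intro j' i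
    have h1 := hrel (Sum.elim (mat L j') (fun l => - mat L' j' l)) (by
      rw [Fintype.sum_sum_type]
      have h2 := congrFun h j'
      simp only [Pi.smul_apply, smul_eq_mul, rext_apply, Finset.mul_sum] at h2
      simp only [Sum.elim_inl, Sum.elim_inr, p, Pi.smul_apply, smul_eq_mul]
      push_cast
      have e1 : ∑ x, (mat L j' x : ℝ) * (c * y.1 x) = ∑ x, c * ((mat L j' x : ℝ) * y.1 x) :=
        Finset.sum_congr rfl fun x _ => by ring
      have e2 : ∑ x, -(mat L' j' x : ℝ) * (c' * y'.1 x)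
          = - ∑ x, c' * ((mat L' j' x : ℝ) * y'.1 x) := by
        rw [← Finset.sum_neg_distrib]
        exact Finset.sum_congr rfl fun x _ => by ring
      rw [e1, e2, h2]; ring) i
    rw [Fintype.sum_sum_type] at h1
    simp only [Sum.elim_inl, Sum.elim_inr, neg_mul, Finset.sum_neg_distrib] at h1
    linarith
  have hswap : ∀ (M : (Fin k.dim → ℤ) →ₗ[ℤ] (Fin N → ℤ)) (j' : Fin N) (x : Fin m → ℤ),
      ∑ l, mat M j' l * ∑ i, G i (Sum.inl l) * x i =
        ∑ i, x i * ∑ l, mat M j' l * G i (Sum.inl l) := by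
    intro M j' x
    simp_rw [Finset.mul_sum]
    rw [Finset.sum_comm]
    exact Finset.sum_congr rfl fun i _ => Finset.sum_congr rfl fun l _ => by ring
  have hswap' : ∀ (M : (Fin k'.dim → ℤ) →ₗ[ℤ] (Fin N → ℤ)) (j' : Fin N) (x : Fin m → ℤ),
      ∑ l, mat M j' l * ∑ i, G i (Sum.inr l) * x i =
        ∑ i, x i * ∑ l, mat M j' l * G i (Sum.inr l) := by
    intro M j' x
    simp_rw [Finset.mul_sum]
    rw [Finset.sum_comm]
    exact Finset.sum_congr rfl fun i _ => Finset.sum_congr rfl fun l _ => by ring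
  have hkey : ∀ (j' : Fin N) (x : Fin m → ℤ),
      ∑ l, mat L j' l * ∑ i, G i (Sum.inl l) * x i =
        ∑ l, mat L' j' l * ∑ i, G i (Sum.inr l) * x i := by
    intro j' x
    rw [hswap, hswap']
    simp_rw [hrel2]
  have hinjα : ∀ x : Fin m → ℤ, (∀ l, ∑ i, G i (Sum.inl l) * x i = 0) → x = 0 := by
    intro x hx
    apply hind
    have hu : (fun l' => ∑ i, G i (Sum.inr l') * x i) = 0 := by
      apply hL'
      rw [map_zero]
      funext j'
      rw [lin_apply]
      change ∑ l', mat L' j' l' * ∑ i, G i (Sum.inr l') * x i = 0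
      rw [← hkey]
      simp [hx]
    rintro (l | l)
    · rw [← hx l]; exact Finset.sum_congr rfl fun i _ => by ring
    · have := congrFun hu l
      change ∑ i, G i (Sum.inr l) * x i = 0 at this
      rw [← this]; exact Finset.sum_congr rfl fun i _ => by ring
  have hinjβ : ∀ x : Fin m → ℤ, (∀ l, ∑ i, G i (Sum.inr l) * x i = 0) → x = 0 := by
    intro x hx
    apply hind
    have hu : (fun l' => ∑ i, G i (Sum.inl l') * x i) = 0 := by
      apply hL
      rw [map_zero]
      funext j'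
      rw [lin_apply]
      change ∑ l', mat L j' l' * ∑ i, G i (Sum.inl l') * x i = 0
      rw [hkey]
      simp [hx]
    rintro (l | l)
    · have := congrFun hu l
      change ∑ i, G i (Sum.inl l) * x i = 0 at this
      rw [← this]; exact Finset.sum_congr rfl fun i _ => by ring
    · rw [← hx l]; exact Finset.sum_congr rfl fun i _ => by ring
  let α : cone m hm ⟶ k :=
    ofMat hm k.dim.pos (fun i l => G i (Sum.inl l)) (fun i l => hG0 i _) hinjα
  let β : cone m hm ⟶ k' :=
    ofMat hm k'.dim.pos (fun i l => G i (Sum.inr l)) (fun i l => hG0 i _) hinjβ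
  have hentα : ∀ l i, ent α l i = G i (Sum.inl l) := fun l i => ent_ofMat _ _ _ _ _ l i
  have hentβ : ∀ l i, ent β l i = G i (Sum.inr l) := fun l i => ent_ofMat _ _ _ _ _ l i
  have ht : t ≠ 0 := by
    intro ht
    apply hp
    funext j
    rw [hpt j]
    simp [ht]
  refine ⟨cone m hm, α, β, ⟨t, ht0, ht⟩, c⁻¹, c'⁻¹, inv_pos.mpr hc, inv_pos.mpr hc', ?_, ?_, ?_⟩
  · apply LinearMap.ext
    intro x
    funext j'
    rw [LinearMap.comp_apply, LinearMap.comp_apply, lin_apply, lin_apply]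
    simp_rw [toLin_apply α, toLin_apply β, hentα, hentβ]
    exact hkey j' x
  · funext l
    rw [Pi.smul_apply, realMap_apply, smul_eq_mul]
    simp_rw [hentα]
    have h1 := hpt (Sum.inl l)
    change c * y.1 l = _ at h1
    have h2 : ∑ i, ((G i (Sum.inl l) : ℤ) : ℝ) * t i = c * y.1 l := by
      rw [h1]; exact Finset.sum_congr rfl fun i _ => by ring
    change y.1 l = c⁻¹ * ∑ i, ((G i (Sum.inl l) : ℤ) : ℝ) * t i
    rw [h2, ← mul_assoc, inv_mul_cancel₀ hc.ne', one_mul]
  · funext l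
    rw [Pi.smul_apply, realMap_apply, smul_eq_mul]
    simp_rw [hentβ]
    have h1 := hpt (Sum.inr l)
    change c' * y'.1 l = _ at h1
    have h2 : ∑ i, ((G i (Sum.inr l) : ℤ) : ℝ) * t i = c' * y'.1 l := by
      rw [h1]; exact Finset.sum_congr rfl fun i _ => by ring
    change y'.1 l = c'⁻¹ * ∑ i, ((G i (Sum.inr l) : ℤ) : ℝ) * t i
    rw [h2, ← mul_assoc, inv_mul_cancel₀ hc'.ne', one_mul]

end Groth.Agent.Lib27.Fan
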