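import Mathlib

/-!
# A rational simplicial cone around a positive real vector (helper27)
-/

set_option autoImplicit false
open Finset

namespace Groth.Agent.Lib27.Fan.Lin

theorem exists_pos_le {ι : Type} (J : Finset ι) (p : ι → ℝ) (hp : ∀ j ∈ J, 0 < p j) :
    ∃ P : ℝ, 0 < P ∧ ∀ j ∈ J, P ≤ p j := by
  by_cases hJ : J.Nonempty
  · obtain ⟨j₀, hj₀, hmin⟩ := Finset.exists_min_image J p hJ
    exact ⟨p j₀, hp j₀ hj₀, hmin⟩
  · rw [Finset.not_nonempty_iff_eq_empty] at hJ
    exact ⟨1, one_pos, by simp [hJ]⟩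

theorem exists_rational_cone {m : ℕ} {ι : Type} [Fintype ι] (r : Fin m → ℝ) (hr : ∀ l, 0 < r l)
    (hm : 0 < m) (Q : ι → Fin m → ℚ) (J : Finset ι)
    (hpos : ∀ j ∈ J, 0 < ∑ l, (Q j l : ℝ) * r l) :
    ∃ (μ : Fin m → Fin m → ℚ) (t : Fin m → ℝ), (∀ i, 0 ≤ t i) ∧
      (∀ l, r l = ∑ i, t i * (μ i l : ℝ)) ∧
      (∀ x : Fin m → ℚ, (∀ l, ∑ i, x i * μ i l = 0) → x = 0) ∧
      (∀ j ∈ J, ∀ i, 0 < ∑ l, Q j l * μ i l) := by
  classical
  obtain ⟨P, hP, hPle⟩ := exists_pos_le J (fun j => ∑ l, (Q j l : ℝ) * r l) hpos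
  set R : ℝ := ∑ l, r l with hR
  have hRpos : 0 < R := by
    apply Finset.sum_pos (fun l _ => hr l)
    exact ⟨⟨0, hm⟩, Finset.mem_univ _⟩
  set Mb : ℝ := ∑ j, ∑ l, |(Q j l : ℝ)| * (r l + 2 * R) with hMb
  have hMb0 : 0 ≤ Mb := by
    apply Finset.sum_nonneg; intro j _
    apply Finset.sum_nonneg; intro l _
    exact mul_nonneg (abs_nonneg _) (by have := hr l; positivity)
  set η : ℝ := P / (2 * (Mb + P)) with hη
  have hη0 : 0 < η := by positivity
  have hη1 : η ≤ 1 / 2 := by
    rw [hη, div_le_div_iff₀ (by positivity) (by norm_num)]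
    nlinarith
  have hηMb : η * Mb < P := by
    rw [hη, div_mul_eq_mul_div, div_lt_iff₀ (by positivity)]
    nlinarith
  -- rational approximations
  have hq : ∀ l, ∃ q : ℚ, r l * (1 - η) < q ∧ (q : ℝ) < r l := by
    intro l
    apply exists_rat_btwn
    have := hr l
    nlinarith
  choose q hq1 hq2 using hq
  obtain ⟨δ, hδ1, hδ2⟩ := exists_rat_btwn (show η * R < 2 * η * R by nlinarith)
  have hqpos : ∀ l, 0 < (q l : ℝ) := by
    intro l
    have := hr l
    have h1 : 0 < r l * (1 - η) := by apply mul_pos this; linarith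
    linarith [hq1 l]
  have hδpos : 0 < (δ : ℝ) := by nlinarith
  set Sq : ℝ := ∑ l, (q l : ℝ) with hSq
  have hSq1 : R * (1 - η) < Sq := by
    rw [hR, Finset.sum_mul, hSq]
    apply Finset.sum_lt_sum_of_nonempty ⟨⟨0, hm⟩, Finset.mem_univ _⟩
    intro l _
    exact hq1 l
  have hden : R < δ + Sq := by nlinarith
  set T : ℝ := R / (δ + Sq) with hT
  have hdenpos : 0 < (δ : ℝ) + Sq := by linarith
  have hT0 : 0 < T := div_pos hRpos hdenpos
  have hT1 : T < 1 := by rw [hT, div_lt_one (by linarith)]; exact hden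
  have hTeq : T * (δ + Sq) = R := by rw [hT]; exact div_mul_cancel₀ R hdenpos.ne'
  refine ⟨fun i l => q l + if i = l then δ else 0, fun i => (r i - T * q i) / δ, ?_, ?_, ?_, ?_⟩
  · intro i
    apply div_nonneg _ hδpos.le
    have := hqpos i
    have := hq2 i
    nlinarith
  · intro l
    have h1 : ∀ i, (r i - T * q i) / δ * (((q l + if i = l then δ else 0 : ℚ)) : ℝ) =
        (r i - T * q i) / δ * q l + if i = l then (r i - T * q i) else 0 := by
      intro i
      split_ifs with h
      · push_cast; field_simp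
      · push_cast; ring
    simp_rw [h1]
    rw [Finset.sum_add_distrib, ← Finset.sum_mul, ← Finset.sum_div, Finset.sum_sub_distrib,
      ← Finset.mul_sum, Finset.sum_ite_eq' Finset.univ l]
    simp only [Finset.mem_univ, if_true]
    rw [← hR, ← hSq]
    have : (R - T * Sq) / δ = T := by
      rw [div_eq_iff hδpos.ne']
      linarith
    rw [this]
    ring
  · intro x hx
    have h1 : ∀ l, (∑ i, x i) * q l + δ * x l = 0 := by
      intro l
      have := hx l
      have h2 : ∑ i, x i * (q l + if i = l then δ else 0) =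
          (∑ i, x i) * q l + δ * x l := by
        simp_rw [mul_add, Finset.sum_add_distrib, ← Finset.sum_mul]
        congr 1
        simp [Finset.sum_ite_eq', mul_comm]
      rw [h2] at this
      exact this
    have h3 : (∑ i, x i) * ((∑ l, q l) + δ) = 0 := by
      have := Finset.sum_congr rfl (fun l (_ : l ∈ Finset.univ) => h1 l)
      rw [Finset.sum_add_distrib, ← Finset.mul_sum, ← Finset.mul_sum, Finset.sum_const_zero] at this
      linarith
    have h4 : (0 : ℚ) < (∑ l, q l) + δ := by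
      have : (0 : ℝ) < ((∑ l, q l) + δ : ℚ) := by
        push_cast
        rw [← hSq]
        linarith
      exact_mod_cast this
    have h5 : ∑ i, x i = 0 := by
      rcases mul_eq_zero.mp h3 with h | h
      · exact h
      · exact absurd h h4.ne'
    funext l
    have := h1 l
    rw [h5, zero_mul, zero_add] at this
    have hδq : (δ : ℚ) ≠ 0 := by
      intro h0
      rw [h0] at hδpos
      simp at hδpos
    exact (mul_eq_zero.mp this).resolve_left hδq
  · intro j hj i
    have hpj := hPle j hj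
    have hcast : ((∑ l, Q j l * (q l + if i = l then δ else 0) : ℚ) : ℝ) =
        ∑ l, (Q j l : ℝ) * r l - ∑ l, (Q j l : ℝ) * (r l - q l) + δ * Q j i := by
      push_cast
      simp_rw [mul_add, Finset.sum_add_distrib, mul_sub, Finset.sum_sub_distrib]
      have : ∑ l, (Q j l : ℝ) * ((if i = l then δ else 0 : ℚ) : ℝ) = δ * Q j i := by
        rw [Finset.sum_eq_single i]
        · simp [mul_comm]
        · intro l _ hl
          rw [if_neg (Ne.symm hl)]
          simp
        · intro h; exact absurd (Finset.mem_univ i) h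
      rw [this]
      ring
    have hb1 : ∑ l, (Q j l : ℝ) * (r l - q l) ≤ η * ∑ l, |(Q j l : ℝ)| * r l := by
      rw [Finset.mul_sum]
      apply Finset.sum_le_sum
      intro l _
      have h1 : 0 ≤ r l - q l := by linarith [hq2 l]
      have h2 : r l - q l ≤ η * r l := by nlinarith [hq1 l]
      calc (Q j l : ℝ) * (r l - q l) ≤ |(Q j l : ℝ)| * (r l - q l) :=
            mul_le_mul_of_nonneg_right (le_abs_self _) h1
        _ ≤ |(Q j l : ℝ)| * (η * r l) := mul_le_mul_of_nonneg_left h2 (abs_nonneg _)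
        _ = η * (|(Q j l : ℝ)| * r l) := by ring
    have hb2 : -(δ * Q j i) ≤ η * ∑ l, |(Q j l : ℝ)| * (2 * R) := by
      have h1 : |(Q j i : ℝ)| ≤ ∑ l, |(Q j l : ℝ)| :=
        Finset.single_le_sum (f := fun l => |(Q j l : ℝ)|) (fun l _ => abs_nonneg _)
          (Finset.mem_univ i)
      have h2 : -(δ * Q j i) ≤ δ * |(Q j i : ℝ)| := by
        have := neg_abs_le (Q j i : ℝ)
        nlinarith
      have h3 : δ * |(Q j i : ℝ)| ≤ 2 * η * R * ∑ l, |(Q j l : ℝ)| := by
        have h0 : 0 ≤ ∑ l, |(Q j l : ℝ)| := Finset.sum_nonneg (fun l _ => abs_nonneg _)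
        calc δ * |(Q j i : ℝ)| ≤ δ * ∑ l, |(Q j l : ℝ)| :=
              mul_le_mul_of_nonneg_left h1 hδpos.le
          _ ≤ 2 * η * R * ∑ l, |(Q j l : ℝ)| := mul_le_mul_of_nonneg_right hδ2.le h0
      rw [← Finset.sum_mul]
      linarith
    have hb3 : η * ∑ l, |(Q j l : ℝ)| * r l + η * ∑ l, |(Q j l : ℝ)| * (2 * R) ≤ η * Mb := by
      rw [← mul_add, ← Finset.sum_add_distrib]
      apply mul_le_mul_of_nonneg_left _ hη0.le
      have : ∑ l, (|(Q j l : ℝ)| * r l + |(Q j l : ℝ)| * (2 * R)) =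
          ∑ l, |(Q j l : ℝ)| * (r l + 2 * R) := by
        apply Finset.sum_congr rfl; intro l _; ring
      rw [this, hMb]
      exact Finset.single_le_sum (f := fun j => ∑ l, |(Q j l : ℝ)| * (r l + 2 * R))
        (fun j _ => Finset.sum_nonneg (fun l _ => mul_nonneg (abs_nonneg _)
          (by have := hr l; positivity))) (Finset.mem_univ j)
    have : (0 : ℝ) < ((∑ l, Q j l * (q l + if i = l then δ else 0) : ℚ) : ℝ) := by
      rw [hcast]
      linarith
    exact_mod_cast this

end Groth.Agent.Lib27.Fan.Lin
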