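import Groth.Agent.Lib27.Fan.Lin1

/-!
# Rational simplicial decomposition of a nonnegative real vector (helper27)
-/

set_option autoImplicit false
open Finset

namespace Groth.Agent.Lib27.Fan.Lin

theorem exists_rational_decomposition {ι : Type} [Fintype ι] (p : ι → ℝ) (hp : p ≠ 0) :
    ∃ (m : ℕ) (_ : 0 < m) (g : Fin m → ι → ℚ) (t : Fin m → ℝ),
      (∀ i, 0 ≤ t i) ∧ (∀ j, p j = ∑ i, t i * (g i j : ℝ)) ∧
      (∀ i j, 0 < p j → 0 < g i j) ∧
      (∀ w : ι → ℚ, ∑ j, (w j : ℝ) * p j = 0 → ∀ i, ∑ j, w j * g i j = 0) ∧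
      (∀ x : Fin m → ℚ, (∀ j, ∑ i, x i * g i j = 0) → x = 0) := by
  classical
  let V : Submodule ℚ ℝ := Submodule.span ℚ (Set.range p)
  haveI : FiniteDimensional ℚ V := FiniteDimensional.span_of_finite ℚ (Set.finite_range p)
  let m := Module.finrank ℚ V
  let b : Module.Basis (Fin m) ℚ V := Module.finBasis ℚ V
  let pV : ι → V := fun j => ⟨p j, Submodule.subset_span ⟨j, rfl⟩⟩
  have hm : 0 < m := by
    rw [Module.finrank_pos_iff]
    obtain ⟨j, hj⟩ : ∃ j, p j ≠ 0 := by
      by_contra hcon
      push Not at hcon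
      exact hp (funext hcon)
    exact ⟨pV j, 0, fun h => hj (congrArg Subtype.val h)⟩
  have hb0 : ∀ l, ((b l : V) : ℝ) ≠ 0 := by
    intro l h
    exact b.ne_zero l (Subtype.ext h)
  let r : Fin m → ℝ := fun l => |((b l : V) : ℝ)|
  have hr : ∀ l, 0 < r l := fun l => abs_pos.mpr (hb0 l)
  let ε : Fin m → ℚ := fun l => if 0 < ((b l : V) : ℝ) then 1 else -1
  have hε2 : ∀ l, ε l * ε l = 1 := by
    intro l
    change (if 0 < ((b l : V) : ℝ) then (1 : ℚ) else -1) * (if 0 < ((b l : V) : ℝ) then 1 else -1) = 1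
    split_ifs <;> norm_num
  have hεr : ∀ l, ((b l : V) : ℝ) = (ε l : ℝ) * r l := by
    intro l
    change _ = ((if 0 < ((b l : V) : ℝ) then (1 : ℚ) else -1 : ℚ) : ℝ) * |((b l : V) : ℝ)|
    split_ifs with h
    · rw [abs_of_pos h]; simp
    · push Not at h
      rw [abs_of_nonpos h]; simp
  let Q : ι → Fin m → ℚ := fun j l => ε l * b.repr (pV j) l
  have hpQ : ∀ j, p j = ∑ l, (Q j l : ℝ) * r l := by
    intro j
    have h1 := b.sum_repr (pV j)
    have h2 := congrArg (Subtype.val : V → ℝ) h1
    rw [Submodule.coe_sum] at h2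
    change _ = p j at h2
    rw [← h2]
    apply Finset.sum_congr rfl
    intro l _
    rw [Submodule.coe_smul, hεr l]
    change (b.repr (pV j) l : ℝ) * _ = ((ε l * b.repr (pV j) l : ℚ) : ℝ) * r l
    push_cast
    ring
  -- rational independence of `r`
  have hind : ∀ a : Fin m → ℚ, ∑ l, (a l : ℝ) * r l = 0 → a = 0 := by
    intro a ha
    have h1 : ∑ l, (a l * ε l) • b l = 0 := by
      apply Subtype.ext
      rw [Submodule.coe_sum, Submodule.coe_zero, ← ha]
      apply Finset.sum_congr rfl
      intro l _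
      rw [Submodule.coe_smul, hεr l]
      change ((a l * ε l : ℚ) : ℝ) * _ = _
      push_cast
      have := hε2 l
      have h3 : ((ε l : ℝ)) * (ε l : ℝ) = 1 := by exact_mod_cast this
      calc (a l : ℝ) * ε l * (ε l * r l) = a l * (ε l * ε l) * r l := by ring
        _ = a l * r l := by rw [h3, mul_one]
    have h2 := Fintype.linearIndependent_iff.mp b.linearIndependent _ h1
    funext l
    have h3 := h2 l
    have h4 : ε l ≠ 0 := by
      intro h0
      have := hε2 l
      rw [h0] at this
      simp at this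
    exact (mul_eq_zero.mp h3).resolve_right h4
  obtain ⟨μ, t, ht0, htr, hμind, hμpos⟩ := exists_rational_cone r hr hm Q
    (Finset.univ.filter fun j => 0 < p j)
    (by intro j hj; rw [← hpQ j]; exact (Finset.mem_filter.mp hj).2)
  -- relations transfer to `Q`
  have hrelQ : ∀ w : ι → ℚ, ∑ j, (w j : ℝ) * p j = 0 → ∀ l, ∑ j, w j * Q j l = 0 := by
    intro w hw
    have h1 : ∑ l, ((∑ j, w j * Q j l : ℚ) : ℝ) * r l = 0 := by
      rw [← hw]
      simp_rw [hpQ, Finset.mul_sum]
      rw [Finset.sum_comm]
      apply Finset.sum_congr rfl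
      intro j _
      push_cast
      rw [Finset.sum_mul]
      apply Finset.sum_congr rfl
      intro l _
      ring
    have := hind (fun l => ∑ j, w j * Q j l) h1
    intro l
    exact congrFun this l
  -- independence of the columns of `Q`
  have hQind : ∀ a : Fin m → ℚ, (∀ j, ∑ l, a l * Q j l = 0) → a = 0 := by
    intro a ha
    let lam : V →ₗ[ℚ] ℚ := b.constr ℚ (fun l => a l * ε l)
    have hlam : ∀ j, lam (pV j) = 0 := by
      intro j
      rw [Module.Basis.constr_apply_fintype]
      rw [← ha j]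
      apply Finset.sum_congr rfl
      intro l _
      change (b.equivFun (pV j) l) • (a l * ε l) = a l * (ε l * b.repr (pV j) l)
      rw [smul_eq_mul, Module.Basis.equivFun_apply]
      ring
    have hlam0 : lam = 0 := by
      apply LinearMap.ext
      rintro ⟨v, hv⟩
      obtain ⟨c, hc⟩ := (Submodule.mem_span_range_iff_exists_fun ℚ).mp hv
      have : (⟨v, hv⟩ : V) = ∑ j, c j • pV j := by
        apply Subtype.ext
        rw [Submodule.coe_sum]
        exact hc.symm
      rw [this, map_sum]
      simp only [map_smul, hlam, smul_zero, Finset.sum_const_zero, LinearMap.zero_apply]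
    funext l
    have h1 : lam (b l) = a l * ε l := b.constr_basis ℚ _ l
    rw [hlam0, LinearMap.zero_apply] at h1
    have h4 : ε l ≠ 0 := by
      intro h0
      have := hε2 l
      rw [h0] at this
      simp at this
    exact (mul_eq_zero.mp h1.symm).resolve_right h4
  refine ⟨m, hm, fun i j => ∑ l, μ i l * Q j l, t, ht0, ?_, ?_, ?_, ?_⟩
  · intro j
    rw [hpQ j]
    simp_rw [htr, Finset.mul_sum]
    rw [Finset.sum_comm]
    apply Finset.sum_congr rfl
    intro i _
    push_cast
    rw [Finset.mul_sum]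
    apply Finset.sum_congr rfl
    intro l _
    ring
  · intro i j hj
    have := hμpos j (Finset.mem_filter.mpr ⟨Finset.mem_univ _, hj⟩) i
    simp_rw [mul_comm (μ i _)]
    exact this
  · intro w hw i
    have := hrelQ w hw
    simp_rw [Finset.mul_sum]
    rw [Finset.sum_comm]
    apply Finset.sum_eq_zero
    intro l _
    have h1 : ∑ j, w j * (μ i l * Q j l) = μ i l * ∑ j, w j * Q j l := by
      rw [Finset.mul_sum]
      apply Finset.sum_congr rfl
      intro j _
      ring
    rw [h1, this l, mul_zero]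
  · intro x hx
    apply hμind
    intro l
    have h1 : ∀ j, ∑ l, (∑ i, x i * μ i l) * Q j l = 0 := by
      intro j
      rw [← hx j]
      simp_rw [Finset.sum_mul, Finset.mul_sum]
      rw [Finset.sum_comm]
      apply Finset.sum_congr rfl
      intro i _
      apply Finset.sum_congr rfl
      intro l _
      ring
    exact congrFun (hQind (fun l => ∑ i, x i * μ i l) h1) l

end Groth.Agent.Lib27.Fan.Lin
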