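import Groth.Agent.Lib27.Fan.Bdd2

/-!
# Convergent sequences in the realisation of a quasi-separated fan (helper27)
-/

set_option autoImplicit false
universe u
open CategoryTheory Opposite Instab Finset Filter Topology

namespace Groth.Agent.Lib27.Fan

variable {F : Fan.{u}} {n : ICone}

/-- sum of the coordinates -/
def osum (w : Fan.Orth n) : ℝ := ∑ i, w.1 i

theorem osum_pos (w : Fan.Orth n) : 0 < osum w := by
  obtain ⟨j, hj⟩ : ∃ j, w.1 j ≠ 0 := by
    by_contra hcon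
    push Not at hcon
    exact w.2.2 (funext hcon)
  have h1 : 0 < w.1 j := lt_of_le_of_ne (w.2.1 j) (Ne.symm hj)
  exact lt_of_lt_of_le h1
    (Finset.single_le_sum (f := fun i => w.1 i) (fun i _ => w.2.1 i) (Finset.mem_univ j))

theorem smul_mem_orth (w : Fan.Orth n) (c : ℝ) (hc : 0 < c) :
    (∀ i, 0 ≤ (c • w.1) i) ∧ c • w.1 ≠ 0 := by
  constructor
  · intro i; exact mul_nonneg hc.le (w.2.1 i)
  · intro h0
    apply w.2.2
    have := congrArg (fun t => c⁻¹ • t) h0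
    simpa [smul_smul, inv_mul_cancel₀ hc.ne'] using this

/-- normalisation to coordinate sum one -/
noncomputable def nrm (w : Fan.Orth n) : Fan.Orth n :=
  ⟨(osum w)⁻¹ • w.1, smul_mem_orth w _ (inv_pos.mpr (osum_pos w))⟩

theorem continuous_osum : Continuous (osum : Fan.Orth n → ℝ) :=
  continuous_finsetSum _ fun i _ => (continuous_apply i).comp (isEmbedding_val n).continuous

theorem continuous_nrm : Continuous (nrm : Fan.Orth n → Fan.Orth n) := by
  rw [(isEmbedding_val n).continuous_iff]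
  exact (continuous_osum.inv₀ fun w => (osum_pos w).ne').smul (isEmbedding_val n).continuous

theorem osum_smul (w w' : Fan.Orth n) (c : ℝ) (h : w'.1 = c • w.1) : osum w' = c * osum w := by
  unfold osum
  rw [h, Finset.mul_sum]
  rfl

theorem nrm_smul (w w' : Fan.Orth n) (c : ℝ) (hc : 0 < c) (h : w'.1 = c • w.1) :
    nrm w' = nrm w := by
  apply Subtype.ext
  change (osum w')⁻¹ • w'.1 = (osum w)⁻¹ • w.1
  rw [osum_smul w w' c h, h, smul_smul, mul_inv, mul_assoc, mul_comm (osum w)⁻¹ c, ← mul_assoc,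
    inv_mul_cancel₀ hc.ne', one_mul]

theorem osum_nrm (w : Fan.Orth n) : osum (nrm w) = 1 := by
  rw [osum_smul w (nrm w) _ rfl, inv_mul_cancel₀ (osum_pos w).ne']

theorem nrm_of_osum_one (w : Fan.Orth n) (h : osum w = 1) : nrm w = w := by
  apply Subtype.ext
  change (osum w)⁻¹ • w.1 = w.1
  rw [h, inv_one, one_smul]

theorem mk_nrm (ξ : F.obj (op n)) (w : Fan.Orth n) : Fan.P.mk ξ (nrm w) = Fan.P.mk ξ w :=
  (mk_eq_of_smul ξ w (nrm w) _ (inv_pos.mpr (osum_pos w)) rfl).symm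

theorem isClosed_ray (v : Fan.Orth n) :
    IsClosed {w : Fan.Orth n | ∃ c : ℝ, 0 < c ∧ w.1 = c • v.1} := by
  have : {w : Fan.Orth n | ∃ c : ℝ, 0 < c ∧ w.1 = c • v.1} =
      ⋂ i, ⋂ j, {w : Fan.Orth n | w.1 i * v.1 j = w.1 j * v.1 i} := by
    ext w
    simp only [Set.mem_ofPred_eq, Set.mem_iInter]
    constructor
    · rintro ⟨c, _, hc⟩ i j
      rw [hc]
      simp only [Pi.smul_apply, smul_eq_mul]
      ring
    · intro h
      exact exists_pos_smul_of_minors w v h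
  rw [this]
  apply isClosed_iInter
  intro i
  apply isClosed_iInter
  intro j
  have hc : ∀ l : Fin n.dim, Continuous fun w : Fan.Orth n => w.1 l :=
    fun l => (continuous_apply l).comp (isEmbedding_val n).continuous
  exact isClosed_eq ((hc i).mul continuous_const) ((hc j).mul continuous_const)

theorem isClosed_singleton (hF : F.IsQuasiSeparated) (x₀ : Fan.P F) :
    IsClosed ({x₀} : Set (Fan.P F)) := by
  obtain ⟨n, ξ, v, rfl⟩ := P.mk_surjective x₀
  have h1 := isClosed_image_mk hF ξ _ (isClosed_ray v) (by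
    rintro u w ⟨c, hc, hu⟩ d hd hw
    exact ⟨d * c, mul_pos hd hc, by rw [hw, hu, smul_smul]⟩)
  have h2 : Fan.P.mk ξ '' {w : Fan.Orth n | ∃ c : ℝ, 0 < c ∧ w.1 = c • v.1} = {Fan.P.mk ξ v} := by
    ext p
    simp only [Set.mem_image, Set.mem_ofPred_eq, Set.mem_singleton_iff]
    constructor
    · rintro ⟨w, ⟨c, hc, hw⟩, rfl⟩
      exact (mk_eq_of_smul ξ v w c hc hw).symm
    · rintro rfl
      exact ⟨v, ⟨1, one_pos, by rw [one_smul]⟩, rfl⟩
  rw [← h2]
  exact h1

theorem exists_subseq_lift (hF : F.IsQuasiSeparated) (x : ℕ → Fan.P F) (x₀ : Fan.P F)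
    (hx : Tendsto x atTop (𝓝 x₀)) :
    ∃ (n : ICone) (σ : F.obj (op n)) (r : ℕ → ℕ) (v : ℕ → Fan.Orth n) (v₀ : Fan.Orth n),
      StrictMono r ∧ (∀ j, Fan.P.mk σ (v j) = x (r j)) ∧ Fan.P.mk σ v₀ = x₀ ∧
        Tendsto v atTop (𝓝 v₀) := by
  classical
  haveI : T1Space (Fan.P F) := ⟨fun p => isClosed_singleton hF p⟩
  -- some cell contains infinitely many terms
  have h1 : ∃ (n : ICone) (ξ : F.obj (op n)), {i | x i ∈ Fan.P.cell ξ}.Infinite := by
    by_contra hcon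
    push Not at hcon
    have hfin : ∀ (n : ICone) (ξ : F.obj (op n)), {i | x i ∈ Fan.P.cell ξ}.Finite :=
      fun n ξ => hcon n ξ
    let B : Set (Fan.P F) := {p | p ∈ Set.range x ∧ p ≠ x₀}
    have hB : IsClosed B := by
      rw [isClosed_iff_cell hF]
      intro n ξ
      apply Set.Finite.isClosed
      apply Set.Finite.subset ((hfin n ξ).image x)
      rintro p ⟨⟨⟨i, rfl⟩, _⟩, hp⟩
      exact ⟨i, hp, rfl⟩
    have hx₀ : x₀ ∉ B := fun h => h.2 rfl
    have hev : ∀ᶠ i in atTop, x i ∈ Bᶜ := hx (hB.isOpen_compl.mem_nhds hx₀)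
    obtain ⟨n₀, ξ₀, u₀, hu₀⟩ := P.mk_surjective x₀
    obtain ⟨N, hN⟩ := eventually_atTop.mp hev
    apply (hfin n₀ ξ₀).not_infinite
    apply (Set.Ici_infinite N).mono
    intro i hi
    have h2 := hN i hi
    have h3 : x i = x₀ := by
      by_contra hne
      exact h2 ⟨⟨i, rfl⟩, hne⟩
    change x i ∈ Fan.P.cell ξ₀
    rw [h3, hu₀]
    exact ⟨u₀, rfl⟩
  obtain ⟨n, ξ, hinf⟩ := h1
  obtain ⟨r, hr, hrx⟩ := extraction_of_frequently_atTop
    ((Nat.frequently_atTop_iff_infinite (p := fun i => x i ∈ Fan.P.cell ξ)).mpr hinf)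
  choose v' hv' using hrx
  -- the compact simplex
  let K : Set (Fin n.dim → ℝ) := {a | (∀ i, 0 ≤ a i) ∧ ∑ i, a i = 1}
  have hK : IsCompact K := by
    apply IsCompact.of_isClosed_subset (isCompact_Icc (a := (0 : Fin n.dim → ℝ)) (b := 1))
    · have : K = (⋂ i, {a : Fin n.dim → ℝ | 0 ≤ a i}) ∩ {a | ∑ i, a i = 1} := by
        ext a; simp [K]
      rw [this]
      apply IsClosed.inter
      · exact isClosed_iInter fun i => isClosed_le continuous_const (continuous_apply i)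
      · exact isClosed_eq (continuous_finsetSum _ fun i _ => continuous_apply i) continuous_const
    · rintro a ⟨ha0, ha1⟩
      refine ⟨fun i => ha0 i, fun i => ?_⟩
      change a i ≤ 1
      rw [← ha1]
      exact Finset.single_le_sum (f := fun i => a i) (fun i _ => ha0 i) (Finset.mem_univ i)
  have hu : ∀ j, (nrm (v' j)).1 ∈ K := fun j => ⟨(nrm (v' j)).2.1, osum_nrm (v' j)⟩
  obtain ⟨a, ha, φ, hφ, hlim⟩ := hK.tendsto_subseq hu
  have ha0 : a ≠ 0 := by
    intro h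
    have := ha.2
    rw [h] at this
    simp at this
  let v₀ : Fan.Orth n := ⟨a, ha.1, ha0⟩
  have hv₀ : osum v₀ = 1 := ha.2
  let v : ℕ → Fan.Orth n := fun j => nrm (v' (φ j))
  have hvlim : Tendsto v atTop (𝓝 v₀) := by
    rw [(isEmbedding_val n).tendsto_nhds_iff]
    exact hlim
  have hvx : ∀ j, Fan.P.mk ξ (v j) = x (r (φ j)) := fun j => by
    change Fan.P.mk ξ (nrm (v' (φ j))) = _
    rw [mk_nrm, hv']
  refine ⟨n, ξ, r ∘ φ, v, v₀, hr.comp hφ, hvx, ?_, hvlim⟩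
  -- the limit lifts `x₀`
  by_contra hne
  let Kt : Set (Fan.Orth n) := Fan.P.mk ξ ⁻¹' {x₀}
  have hKt : IsClosed Kt := (isClosed_singleton hF x₀).preimage (continuous_mk ξ)
  have hv₀K : v₀ ∈ Ktᶜ := hne
  obtain ⟨O, hO, hOK⟩ := (isEmbedding_val n).isInducing.isOpen_iff.mp hKt.isOpen_compl
  have hv₀O : v₀.1 ∈ O := by
    have : v₀ ∈ (fun w : Fan.Orth n => w.1) ⁻¹' O := by rw [hOK]; exact hv₀K
    exact this
  obtain ⟨ε, hε, hball⟩ := Metric.isOpen_iff.mp hO v₀.1 hv₀O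
  let C : Set (Fan.Orth n) := {w | dist (nrm w).1 v₀.1 ≤ ε / 2}
  have hC : IsClosed C :=
    isClosed_le (((isEmbedding_val n).continuous.comp continuous_nrm).dist continuous_const)
      continuous_const
  have hCsat : ∀ u w : Fan.Orth n, u ∈ C → ∀ c : ℝ, 0 < c → w.1 = c • u.1 → w ∈ C := by
    intro u w hu c hc hw
    change dist (nrm w).1 v₀.1 ≤ ε / 2
    rw [nrm_smul u w c hc hw]
    exact hu
  have hCK : ∀ w ∈ C, Fan.P.mk ξ w ≠ x₀ := by
    intro w hw hwx
    have h2 : (nrm w).1 ∈ O := hball (by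
      rw [Metric.mem_ball]
      exact lt_of_le_of_lt hw (by linarith))
    have h3 : nrm w ∈ Ktᶜ := by
      rw [← hOK]; exact h2
    apply h3
    change Fan.P.mk ξ (nrm w) = x₀
    rw [mk_nrm, hwx]
  have hcl : IsClosed (Fan.P.mk ξ '' C) := isClosed_image_mk hF ξ C hC hCsat
  have hx₀C : x₀ ∉ Fan.P.mk ξ '' C := by
    rintro ⟨w, hw, hwx⟩
    exact hCK w hw hwx
  have hsub : Tendsto (x ∘ (r ∘ φ)) atTop (𝓝 x₀) :=
    hx.comp ((hr.comp hφ).tendsto_atTop)
  have hev1 : ∀ᶠ j in atTop, x (r (φ j)) ∈ (Fan.P.mk ξ '' C)ᶜ :=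
    hsub (hcl.isOpen_compl.mem_nhds hx₀C)
  have hev2 : ∀ᶠ j in atTop, v j ∈ C := by
    have h4 : Tendsto (fun j => dist (nrm (v j)).1 v₀.1) atTop (𝓝 (dist (nrm v₀).1 v₀.1)) :=
      (((isEmbedding_val n).continuous.comp continuous_nrm).dist
        continuous_const).continuousAt.tendsto.comp hvlim
    rw [nrm_of_osum_one v₀ hv₀, dist_self] at h4
    exact h4.eventually (Iic_mem_nhds (by linarith))
  obtain ⟨j, hj1, hj2⟩ := (hev1.and hev2).exists
  exact hj1 ⟨v j, hj2, hvx j⟩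

end Groth.Agent.Lib27.Fan
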