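import Groth.Agent.Lib27.Fan.QConc
import Groth.Agent.Lib27.Fan.Seq

/-!
# Uniqueness of local maxima of strictly quasi-concave functions (helper27)
-/

set_option autoImplicit false
universe u v
open CategoryTheory Opposite Instab Finset Filter Topology

namespace Groth.Agent.Lib27.Fan

variable {F : Fan.{u}}

/-- the point `a + |t| b` of the punctured orthant -/
noncomputable def pth {n : ICone} (a b : Fan.Orth n) (t : ℝ) : Fan.Orth n :=
  ⟨a.1 + |t| • b.1, fun i => add_nonneg (a.2.1 i) (mul_nonneg (abs_nonneg t) (b.2.1 i)), by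
    intro h
    apply a.2.2
    funext i
    have hi := congrFun h i
    simp only [Pi.add_apply, Pi.smul_apply, smul_eq_mul, Pi.zero_apply] at hi
    have h1 := a.2.1 i
    have h2 := mul_nonneg (abs_nonneg t) (b.2.1 i)
    change a.1 i = 0
    linarith⟩

theorem continuous_pth {n : ICone} (a b : Fan.Orth n) : Continuous (pth a b) := by
  rw [(isEmbedding_val n).continuous_iff]
  change Continuous (fun t : ℝ => a.1 + |t| • b.1)
  exact continuous_const.add (continuous_abs.smul continuous_const)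

theorem pth_zero {n : ICone} (a b : Fan.Orth n) : pth a b 0 = a := by
  apply Subtype.ext
  change a.1 + |(0:ℝ)| • b.1 = a.1
  rw [abs_zero, zero_smul, add_zero]

section

variable (U : Set (Fan.P F)) {Γ : Type v} [LinearOrder Γ] (Φ : U → Γ)

/-- a local maximum is the strict maximum on every segment through it -/
theorem lt_of_isLocalMax_of_mem_cell (hlc : Fan.IsLocallyConvex U)
    (hs : Fan.IsStrictQuasiConcaveOn U Φ) {n : ICone} (ξ : F.obj (op n)) (a b : Fan.Orth n)
    (ha : Fan.P.mk ξ a ∈ U) (hb : Fan.P.mk ξ b ∈ U) (hnp : ¬ ∃ c : ℝ, b.1 = c • a.1)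
    (hmax : IsLocalMax Φ ⟨Fan.P.mk ξ a, ha⟩) : Φ ⟨Fan.P.mk ξ b, hb⟩ < Φ ⟨Fan.P.mk ξ a, ha⟩ := by
  by_contra hle
  push Not at hle
  have hmem : ∀ t : ℝ, Fan.P.mk ξ (pth a b t) ∈ U := by
    intro t
    by_cases ht : t = 0
    · rw [ht, pth_zero]; exact ha
    · exact hlc n ξ a (pth a b t) b ha hb ⟨1, |t|, one_pos, abs_pos.mpr ht, by
        change a.1 + |t| • b.1 = (1:ℝ) • a.1 + |t| • b.1
        rw [one_smul]⟩
  let γ : ℝ → U := fun t => ⟨Fan.P.mk ξ (pth a b t), hmem t⟩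
  have hγ : Continuous γ := by
    apply Continuous.subtype_mk
    exact (continuous_mk ξ).comp (continuous_pth a b)
  have hγ0 : γ 0 = ⟨Fan.P.mk ξ a, ha⟩ := by
    apply Subtype.ext
    change Fan.P.mk ξ (pth a b 0) = Fan.P.mk ξ a
    rw [pth_zero]
  have h1 : ∀ᶠ t in 𝓝 (0 : ℝ), Φ (γ t) ≤ Φ ⟨Fan.P.mk ξ a, ha⟩ := by
    have h2 : Tendsto γ (𝓝 0) (𝓝 ⟨Fan.P.mk ξ a, ha⟩) := by
      rw [← hγ0]; exact hγ.continuousAt
    exact h2.eventually hmax
  have h3 : ∃ᶠ t in 𝓝 (0 : ℝ), 0 < t := by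
    have h4 : ∃ᶠ t in 𝓝[>] (0 : ℝ), 0 < t :=
      (eventually_mem_nhdsWithin (a := (0:ℝ)) (s := Set.Ioi 0)).frequently
    exact h4.filter_mono nhdsWithin_le_nhds
  obtain ⟨t, ht, ht'⟩ := (h3.and_eventually h1).exists
  have hq := hs n ξ a (pth a b t) b ha (hmem t) hb hnp ⟨1, t, one_pos, ht, by
    change a.1 + |t| • b.1 = (1:ℝ) • a.1 + t • b.1
    rw [one_smul, abs_of_pos ht]⟩
  rw [min_eq_left hle] at hq
  exact absurd ht' (not_le.mpr hq)

/-- two local maxima in a common cell coincide -/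
theorem eq_of_isLocalMax_of_mem_cell (hlc : Fan.IsLocallyConvex U)
    (hs : Fan.IsStrictQuasiConcaveOn U Φ) {n : ICone} (ξ : F.obj (op n)) (z z' : U)
    (hz : (z : Fan.P F) ∈ Fan.P.cell ξ) (hz' : (z' : Fan.P F) ∈ Fan.P.cell ξ)
    (hmax : IsLocalMax Φ z) (hmax' : IsLocalMax Φ z') : z = z' := by
  obtain ⟨a, ha⟩ := hz
  obtain ⟨b, hb⟩ := hz'
  by_contra hne
  have haU : Fan.P.mk ξ a ∈ U := ha ▸ z.2
  have hbU : Fan.P.mk ξ b ∈ U := hb ▸ z'.2
  have ez : (⟨Fan.P.mk ξ a, haU⟩ : U) = z := Subtype.ext ha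
  have ez' : (⟨Fan.P.mk ξ b, hbU⟩ : U) = z' := Subtype.ext hb
  have hnp : ¬ ∃ c : ℝ, b.1 = c • a.1 := by
    rintro ⟨c, hc⟩
    have hcpos : 0 < c := by
      obtain ⟨j, hj⟩ : ∃ j, b.1 j ≠ 0 := by
        by_contra hcon
        push Not at hcon
        exact b.2.2 (funext hcon)
      have h1 : 0 < b.1 j := lt_of_le_of_ne (b.2.1 j) (Ne.symm hj)
      have h2 : b.1 j = c * a.1 j := congrFun hc j
      by_contra hc0
      push Not at hc0
      have := mul_nonpos_of_nonpos_of_nonneg hc0 (a.2.1 j)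
      linarith
    apply hne
    rw [← ez, ← ez']
    apply Subtype.ext
    exact mk_eq_of_smul ξ a b c hcpos hc
  have hnp' : ¬ ∃ c : ℝ, a.1 = c • b.1 := by
    rintro ⟨c, hc⟩
    apply hnp
    have hc0 : c ≠ 0 := by
      intro h0
      rw [h0, zero_smul] at hc
      exact a.2.2 hc
    exact ⟨c⁻¹, by rw [hc, smul_smul, inv_mul_cancel₀ hc0, one_smul]⟩
  have h1 := lt_of_isLocalMax_of_mem_cell U Φ hlc hs ξ a b haU hbU hnp (ez ▸ hmax)
  have h2 := lt_of_isLocalMax_of_mem_cell U Φ hlc hs ξ b a hbU haU hnp' (ez' ▸ hmax')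
  exact lt_asymm h1 h2

end

/-- rational points are dense in a realizable set -/
theorem exists_rational_mem (U : Set (Fan.P F)) (hr : Fan.IsRealizable U) (O : Set U)
    (hO : IsOpen O) (x : U) (hx : x ∈ O) : ∃ x' ∈ O, (x' : Fan.P F).IsRational := by
  obtain ⟨S, hS⟩ := hr
  have hx2 : (x : Fan.P F) ∈ Set.range (Fan.P.map S.ι) := hS ▸ x.2
  rw [mem_range_ι_iff] at hx2
  obtain ⟨n, σ, v, hσ, hxv⟩ := hx2
  have hcell : ∀ u : Fan.Orth n, Fan.P.mk σ u ∈ U := by
    intro u
    have : Fan.P.mk σ u ∈ Set.range (Fan.P.map S.ι) := by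
      rw [mem_range_ι_iff]
      exact ⟨n, σ, u, hσ, rfl⟩
    exact hS ▸ this
  let g : Fan.Orth n → U := fun u => ⟨Fan.P.mk σ u, hcell u⟩
  have hg : Continuous g := Continuous.subtype_mk (continuous_mk σ) _
  by_contra hcon
  push Not at hcon
  have hC : IsClosed (g ⁻¹' Oᶜ) := hO.isClosed_compl.preimage hg
  have hv : v ∈ g ⁻¹' Oᶜ := by
    apply mem_of_isClosed_of_rational _ hC
    intro w hw hw0 c hc u hu hmem
    exact hcon (g u) hmem (isRational_mk_of_int σ w hw hw0 c hc u hu)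
  apply hv
  have : g v = x := Subtype.ext hxv.symm
  change g v ∈ O
  rw [this]
  exact hx

/-- the segment `(|1-t|, |t|)` -/
noncomputable def seg2 (t : ℝ) : Fan.Orth Fan.two :=
  ⟨fun j => if j = 0 then |1 - t| else |t|, fun j => by
    by_cases h : j = 0
    · simp only [h, if_true]; exact abs_nonneg _
    · simp only [h, if_false]; exact abs_nonneg _, fun h => by
    have h0 := congrFun h 0
    have h1 := congrFun h 1
    simp only [if_true, Pi.zero_apply] at h0
    have h1' : |t| = 0 := by simpa using h1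
    rw [abs_eq_zero] at h0 h1'
    linarith⟩

theorem continuous_seg2 : Continuous seg2 := by
  rw [(isEmbedding_val Fan.two).continuous_iff]
  apply continuous_pi
  intro j
  change Continuous (fun t : ℝ => if j = 0 then |1 - t| else |t|)
  by_cases h : j = 0
  · simp only [h, if_true]; exact continuous_abs.comp (continuous_const.sub continuous_id)
  · simp only [h, if_false]; exact continuous_abs

theorem seg2_zero : seg2 0 = Fan.Orth.basis Fan.two 0 := by
  apply Subtype.ext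
  funext j
  change (if j = 0 then |1 - (0:ℝ)| else |(0:ℝ)|) = if j = 0 then 1 else 0
  simp

theorem seg2_one : seg2 1 = Fan.Orth.basis Fan.two 1 := by
  apply Subtype.ext
  funext j
  change (if j = 0 then |1 - (1:ℝ)| else |(1:ℝ)|) = if j = 1 then 1 else 0
  fin_cases j <;> simp

theorem seg2_eq (t : ℝ) (h0 : 0 < t) (h1 : t < 1) :
    (seg2 t).1 = (1 - t) • (Fan.Orth.basis Fan.two 0).1 + t • (Fan.Orth.basis Fan.two 1).1 := by
  funext j
  change (if j = 0 then |1 - t| else |t|) =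
    (1 - t) * (if j = 0 then 1 else 0) + t * (if j = 1 then 1 else 0)
  rw [abs_of_pos h0, abs_of_pos (by linarith : (0:ℝ) < 1 - t)]
  fin_cases j <;> simp

theorem eq_of_isLocalMax (hF : F.IsQuasiSeparated) (hT2 : T2Space (Fan.P F))
    (U : Set (Fan.P F)) (hUc : IsCompact U) (hU : Fan.IsConvex U)
    {Γ : Type v} [LinearOrder Γ] [TopologicalSpace Γ] [OrderTopology Γ]
    (Φ : U → Γ) (hΦc : Continuous Φ) (hΦ : Fan.IsStrictQuasiConcaveOn U Φ) (x y : U)
    (hx : IsLocalMax Φ x) (hy : IsLocalMax Φ y) : x = y := by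
  classical
  haveI := hT2
  haveI : CompactSpace U := isCompact_iff_compactSpace.mp hUc
  -- key reduction: assume `Φ x ≤ Φ y`
  have main : ∀ x y : U, IsLocalMax Φ x → IsLocalMax Φ y → Φ x ≤ Φ y → x ≠ y → False := by
    intro x y hx hy hxy hne
    -- every set of local maxima is closed
    have hLMclosed : ∀ A : Set U, (∀ z ∈ A, IsLocalMax Φ z) → IsClosed A := by
      intro A hA
      have h1 : IsClosed ((fun z : U => (z : Fan.P F)) '' A) := by
        rw [isClosed_iff_cell hF]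
        intro n ξ
        apply Set.Subsingleton.isClosed
        rintro p ⟨⟨z, hz, rfl⟩, hzc⟩ p' ⟨⟨z', hz', rfl⟩, hzc'⟩
        rw [eq_of_isLocalMax_of_mem_cell U Φ hU.1 hΦ ξ z z' hzc hzc' (hA z hz) (hA z' hz')]
      have h2 : A = (fun z : U => (z : Fan.P F)) ⁻¹' ((fun z : U => (z : Fan.P F)) '' A) :=
        (Set.preimage_image_eq A Subtype.val_injective).symm
      rw [h2]
      exact h1.preimage continuous_subtype_val
    -- open neighbourhoods
    obtain ⟨Ox, hOx, hOxo, hxOx⟩ := mem_nhds_iff.mp hx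
    obtain ⟨Oy, hOy, hOyo, hyOy⟩ := mem_nhds_iff.mp hy
    obtain ⟨D, D', hDo, hD'o, hxD, hyD', hDD'⟩ := t2_separation hne
    let A : Set U := {z | IsLocalMax Φ z ∧ z ≠ x}
    have hA : IsClosed A := hLMclosed A fun z hz => hz.1
    let Vx : Set U := Ox ∩ D ∩ Aᶜ
    have hVxo : IsOpen Vx := (hOxo.inter hDo).inter hA.isOpen_compl
    have hxVx : x ∈ Vx := ⟨⟨hxOx, hxD⟩, fun h => h.2 rfl⟩
    have hstrict : ∀ z ∈ Vx, z ≠ x → Φ z < Φ x := by
      intro z hz hzx
      have h1 : Φ z ≤ Φ x := hOx hz.1.1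
      rcases h1.lt_or_eq with h2 | h2
      · exact h2
      · exfalso
        apply hz.2
        refine ⟨?_, hzx⟩
        apply Filter.mem_of_superset (hOxo.mem_nhds hz.1.1)
        intro z' hz'
        change Φ z' ≤ Φ z
        rw [h2]
        exact hOx hz'
    let Vy : Set U := Oy ∩ D'
    have hVyo : IsOpen Vy := hOyo.inter hD'o
    have hyVy : y ∈ Vy := ⟨hyOy, hyD'⟩
    have hdisj : ∀ z, z ∈ Vx → z ∈ Vy → False := fun z h1 h2 =>
      Set.disjoint_left.mp hDD' h1.1.2 h2.2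
    -- closed neighbourhood
    obtain ⟨t, ht, htc, htV⟩ := exists_mem_nhds_isClosed_subset (hVxo.mem_nhds hxVx)
    let W : Set U := interior t
    have hWo : IsOpen W := isOpen_interior
    have hxW : x ∈ W := mem_interior_iff_mem_nhds.mpr ht
    let B : Set U := t \ W
    have hBc : IsCompact B := (htc.sdiff hWo).isCompact
    -- threshold neighbourhood
    obtain ⟨O', hO'o, hxO', hyO', hO'B⟩ : ∃ O' : Set U, IsOpen O' ∧ x ∈ O' ∧ y ∈ O' ∧
        ∀ z ∈ O', ∀ b ∈ B, Φ b < Φ z := by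
      rcases B.eq_empty_or_nonempty with hB | hB
      · refine ⟨Set.univ, isOpen_univ, trivial, trivial, ?_⟩
        intro z _ b hb
        rw [hB] at hb
        exact absurd hb (Set.notMem_empty b)
      · obtain ⟨b₀, hb₀B, hb₀⟩ := hBc.exists_isMaxOn hB hΦc.continuousOn
        have hb₀x : Φ b₀ < Φ x := by
          apply hstrict b₀ (htV hb₀B.1)
          rintro rfl
          exact hb₀B.2 hxW
        refine ⟨{z | Φ b₀ < Φ z}, isOpen_lt continuous_const hΦc, hb₀x,
          lt_of_lt_of_le hb₀x hxy, ?_⟩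
        intro z hz b hb
        exact lt_of_le_of_lt (hb₀ hb) hz
    -- rational points
    obtain ⟨x', hx'O, hx'r⟩ := exists_rational_mem U hU.2.1 (W ∩ O') (hWo.inter hO'o) x
      ⟨hxW, hxO'⟩
    obtain ⟨y', hy'O, hy'r⟩ := exists_rational_mem U hU.2.1 (Vy ∩ O') (hVyo.inter hO'o) y
      ⟨hyVy, hyO'⟩
    have hx'y' : (x' : Fan.P F) ≠ y' := by
      intro h
      have : x' = y' := Subtype.ext h
      exact hdisj x' (htV (interior_subset hx'O.1)) (this ▸ hy'O.1)
    obtain ⟨τ, hτ, hτx, hτy⟩ := hU.2.2 x' y' x'.2 y'.2 hx'r hy'r hx'y'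
    let γ : ℝ → U := fun s => ⟨Fan.P.mk τ (seg2 s), hτ ⟨_, rfl⟩⟩
    have hγ : Continuous γ := by
      apply Continuous.subtype_mk
      exact (continuous_mk τ).comp continuous_seg2
    have hγ0 : γ 0 = x' := by
      apply Subtype.ext
      change Fan.P.mk τ (seg2 0) = x'.1
      rw [seg2_zero, hτx]
    have hγ1 : γ 1 = y' := by
      apply Subtype.ext
      change Fan.P.mk τ (seg2 1) = y'.1
      rw [seg2_one, hτy]
    -- crossing
    have hcross : ∃ s ∈ Set.Icc (0:ℝ) 1, γ s ∈ B := by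
      by_contra hcon
      push Not at hcon
      have hpre := isPreconnected_Icc (a := (0:ℝ)) (b := 1)
      have h1 := hpre (γ ⁻¹' W) (γ ⁻¹' tᶜ) (hWo.preimage hγ) (htc.isOpen_compl.preimage hγ)
        (by
          intro s hs
          by_cases hsW : γ s ∈ W
          · exact Or.inl hsW
          · right
            intro hst
            exact hcon s hs ⟨hst, hsW⟩)
        ⟨0, ⟨le_refl 0, zero_le_one⟩, by change γ 0 ∈ W; rw [hγ0]; exact hx'O.1⟩
        ⟨1, ⟨zero_le_one, le_refl 1⟩, by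
          change γ 1 ∉ t
          rw [hγ1]
          intro h
          exact hdisj y' (htV h) hy'O.1⟩
      obtain ⟨s, _, hsW, hst⟩ := h1
      exact hst (interior_subset hsW)
    obtain ⟨s, hs, hsB⟩ := hcross
    have hs0 : s ≠ 0 := by
      rintro rfl
      rw [hγ0] at hsB
      exact hsB.2 hx'O.1
    have hs1 : s ≠ 1 := by
      rintro rfl
      rw [hγ1] at hsB
      exact hdisj y' (htV hsB.1) hy'O.1
    have hs0' : 0 < s := lt_of_le_of_ne hs.1 (Ne.symm hs0)
    have hs1' : s < 1 := lt_of_le_of_ne hs.2 hs1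
    have h0 : Fan.P.mk τ (Fan.Orth.basis Fan.two 0) ∈ U := hτ ⟨_, rfl⟩
    have h2 : Fan.P.mk τ (Fan.Orth.basis Fan.two 1) ∈ U := hτ ⟨_, rfl⟩
    have hq := hΦ Fan.two τ _ (seg2 s) _ h0 (hτ ⟨_, rfl⟩) h2 basis_not_prop
      ⟨1 - s, s, by linarith, hs0', seg2_eq s hs0' hs1'⟩
    have ex : (⟨_, h0⟩ : U) = x' := Subtype.ext hτx
    have ey : (⟨_, h2⟩ : U) = y' := Subtype.ext hτy
    rw [ex, ey] at hq
    have hb1 := hO'B x' hx'O.2 (γ s) hsB
    have hb2 := hO'B y' hy'O.2 (γ s) hsB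
    have hb3 : Φ (γ s) < min (Φ x') (Φ y') := lt_min hb1 hb2
    exact lt_asymm hq hb3
  by_contra hne
  rcases le_total (Φ x) (Φ y) with h | h
  · exact main x y hx hy h hne
  · exact main y x hy hx h (Ne.symm hne)

end Groth.Agent.Lib27.Fan
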