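import Groth.Agent.Lib27.Fan.SubCone

/-!
# Maps of projective realisations, pullbacks (helper27)
-/

set_option autoImplicit false
universe u
open CategoryTheory Opposite Instab Finset

namespace Groth.Agent.Lib27.Fan

variable {F G H : Fan.{u}}

theorem P.map_comp (f : F ⟶ G) (g : G ⟶ H) (x : Fan.P F) :
    Fan.P.map (f ≫ g) x = Fan.P.map g (Fan.P.map f x) := by
  induction x using Quot.ind
  rfl

theorem P.map_injective (f : F ⟶ G) (hf : ∀ n : ICone, Function.Injective (f.app (op n))) :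
    Function.Injective (Fan.P.map f) := by
  intro x x' h
  obtain ⟨n, σ, v, rfl⟩ := P.mk_surjective x
  obtain ⟨n', σ', v', rfl⟩ := P.mk_surjective x'
  rw [P.map_mk, P.map_mk, mk_eq_iff] at h
  obtain ⟨k, φ₁, φ₂, y, c₁, c₂, h1, h2, h3, h4, h5⟩ := h
  rw [mk_eq_iff]
  refine ⟨k, φ₁, φ₂, y, c₁, c₂, ?_, h2, h3, h4, h5⟩
  apply hf k
  have e1 := NatTrans.naturality_apply f φ₁.op σ
  have e2 := NatTrans.naturality_apply f φ₂.op σ'
  rw [e1, e2]
  exact h1

theorem P.map_surjective (f : F ⟶ G) (hf : ∀ n : ICone, Function.Surjective (f.app (op n))) :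
    Function.Surjective (Fan.P.map f) := by
  intro x
  obtain ⟨n, σ, v, rfl⟩ := P.mk_surjective x
  obtain ⟨τ, rfl⟩ := hf n σ
  exact ⟨Fan.P.mk τ v, rfl⟩

section Pullback

variable {F' : Fan.{u}} (f : F ⟶ G) (g : F' ⟶ G)

theorem exists_pullback_elt {k : ICone}
    (τ : F.obj (op k)) (τ' : F'.obj (op k)) (h : f.app _ τ = g.app _ τ') :
    ∃ ρ : (Limits.pullback f g).obj (op k),
      (Limits.pullback.fst f g).app _ ρ = τ ∧ (Limits.pullback.snd f g).app _ ρ = τ' := by
  let a : uliftYoneda.{u}.obj k ⟶ F := uliftYonedaEquiv.{u}.symm τ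
  let b : uliftYoneda.{u}.obj k ⟶ F' := uliftYonedaEquiv.{u}.symm τ'
  have w : a ≫ f = b ≫ g := by
    change uliftYonedaEquiv.{u}.symm τ ≫ f = uliftYonedaEquiv.{u}.symm τ' ≫ g
    rw [uliftYonedaEquiv_symm_comp, uliftYonedaEquiv_symm_comp, h]
  refine ⟨uliftYonedaEquiv.{u} (Limits.pullback.lift a b w), ?_, ?_⟩
  · rw [← uliftYonedaEquiv_comp, Limits.pullback.lift_fst]
    exact Equiv.apply_symm_apply _ _
  · rw [← uliftYonedaEquiv_comp, Limits.pullback.lift_snd]
    exact Equiv.apply_symm_apply _ _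

theorem pullback_condition_app {k : ICone} (ρ : (Limits.pullback f g).obj (op k)) :
    f.app _ ((Limits.pullback.fst f g).app _ ρ) = g.app _ ((Limits.pullback.snd f g).app _ ρ) := by
  have := congrArg (fun t => t.app (op k) ρ) (Limits.pullback.condition (f := f) (g := g))
  exact this

theorem pullback_elt_ext {k : ICone} (ρ ρ' : (Limits.pullback f g).obj (op k))
    (h1 : (Limits.pullback.fst f g).app _ ρ = (Limits.pullback.fst f g).app _ ρ')
    (h2 : (Limits.pullback.snd f g).app _ ρ = (Limits.pullback.snd f g).app _ ρ') : ρ = ρ' := by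
  apply uliftYonedaEquiv.{u}.symm.injective
  apply Limits.pullback.hom_ext
  · rw [uliftYonedaEquiv_symm_comp, uliftYonedaEquiv_symm_comp, h1]
  · rw [uliftYonedaEquiv_symm_comp, uliftYonedaEquiv_symm_comp, h2]

theorem P.pullback_surjective (x : Fan.P F) (x' : Fan.P F')
    (h : Fan.P.map f x = Fan.P.map g x') :
    ∃ y : Fan.P (Limits.pullback f g),
      Fan.P.map (Limits.pullback.fst f g) y = x ∧ Fan.P.map (Limits.pullback.snd f g) y = x' := by
  obtain ⟨n, σ, v, rfl⟩ := P.mk_surjective x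
  obtain ⟨n', σ', v', rfl⟩ := P.mk_surjective x'
  rw [P.map_mk, P.map_mk, mk_eq_iff] at h
  obtain ⟨k, φ₁, φ₂, y, c₁, c₂, h1, h2, h3, h4, h5⟩ := h
  have e1 := NatTrans.naturality_apply f φ₁.op σ
  have e2 := NatTrans.naturality_apply g φ₂.op σ'
  obtain ⟨ρ, hρ1, hρ2⟩ := exists_pullback_elt f g (F.map φ₁.op σ) (F'.map φ₂.op σ')
    (by rw [e1, e2]; exact h1)
  refine ⟨Fan.P.mk ρ y, ?_, ?_⟩
  · rw [P.map_mk, hρ1, mk_eq_iff]
    exact ⟨k, 𝟙 _, φ₁, y, 1, c₁, map_id_op F _, one_pos, h2, by rw [realMap_id, one_smul], h4⟩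
  · rw [P.map_mk, hρ2, mk_eq_iff]
    exact ⟨k, 𝟙 _, φ₂, y, 1, c₂, map_id_op F' _, one_pos, h3, by rw [realMap_id, one_smul], h5⟩

end Pullback

theorem P.range_map_range (f : F ⟶ G) :
    Set.range (Fan.P.map f) = Set.range (Fan.P.map (Subfunctor.range f).ι) := by
  have hs : Function.Surjective (Fan.P.map (Subfunctor.toRange f)) := by
    apply P.map_surjective
    intro n ⟨x, y, hy⟩
    exact ⟨y, Subtype.ext hy⟩
  have hc : Fan.P.map f = Fan.P.map (Subfunctor.range f).ι ∘ Fan.P.map (Subfunctor.toRange f) := by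
    funext x
    rw [Function.comp_apply, ← P.map_comp, Subfunctor.toRange_ι]
  rw [hc, Set.range_comp, hs.range_eq, Set.image_univ]

theorem P.range_map_snd {G' : Fan.{u}} (f : F ⟶ G) (g : G' ⟶ G) :
    Set.range (Fan.P.map (Limits.pullback.snd f g)) =
      Fan.P.map g ⁻¹' Set.range (Fan.P.map f) := by
  ext x'
  constructor
  · rintro ⟨y, rfl⟩
    refine ⟨Fan.P.map (Limits.pullback.fst f g) y, ?_⟩
    rw [← P.map_comp, ← P.map_comp, Limits.pullback.condition]
  · rintro ⟨x, hx⟩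
    obtain ⟨y, _, hy⟩ := P.pullback_surjective f g x x' hx
    exact ⟨y, hy⟩

end Groth.Agent.Lib27.Fan
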