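import Groth.Agent.Lib27.Fan.Top

/-!
# Quasi-concave functions on convex subsets of `P F` (helper27)
-/

set_option autoImplicit false
universe u v
open CategoryTheory Opposite Instab Finset Filter Topology

namespace Groth.Agent.Lib27.Fan

variable {F : Fan.{u}}

/-- the point `(1, |t|)` of the punctured quadrant -/
noncomputable def seg (t : ℝ) : Fan.Orth Fan.two :=
  ⟨fun j => if j = 0 then 1 else |t|, fun j => by
    by_cases h : j = 0
    · simp [h]
    · simp only [h, if_false]; exact abs_nonneg t, fun h => by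
    have h1 := congrFun h 0
    simp at h1⟩

theorem continuous_seg : Continuous seg := by
  rw [(isEmbedding_val Fan.two).continuous_iff]
  apply continuous_pi
  intro j
  change Continuous (fun t : ℝ => if j = 0 then (1 : ℝ) else |t|)
  by_cases h : j = 0
  · simp only [h, if_true]; exact continuous_const
  · simp only [h, if_false]; exact continuous_abs

theorem seg_zero : seg 0 = Fan.Orth.basis Fan.two 0 := by
  apply Subtype.ext
  funext j
  change (if j = 0 then (1 : ℝ) else |(0:ℝ)|) = if j = 0 then 1 else 0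
  simp

theorem seg_eq (t : ℝ) (ht : 0 < t) :
    (seg t).1 = (1 : ℝ) • (Fan.Orth.basis Fan.two 0).1 + t • (Fan.Orth.basis Fan.two 1).1 := by
  funext j
  change (if j = 0 then (1 : ℝ) else |t|) = 1 * (if j = 0 then 1 else 0) + t * (if j = 1 then 1 else 0)
  rw [abs_of_pos ht]
  fin_cases j <;> simp

theorem basis_not_prop :
    ¬ ∃ c : ℝ, (Fan.Orth.basis Fan.two 1).1 = c • (Fan.Orth.basis Fan.two 0).1 := by
  rintro ⟨c, hc⟩
  have := congrFun hc 1
  change (if (1 : Fin 2) = 1 then (1 : ℝ) else 0) = c * (if (1 : Fin 2) = 0 then 1 else 0) at this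
  simp at this

section

variable (U : Set (Fan.P F)) {Γ : Type v} [LinearOrder Γ] (Φ : U → Γ)

/-- along a segment inside `U` starting at a local maximum, some interior point has value at most
the value at the start -/
theorem exists_seg_le (τ : F.obj (op Fan.two)) (hτ : Fan.P.cell τ ⊆ U) (x : U)
    (hx : Fan.P.mk τ (Fan.Orth.basis Fan.two 0) = x.1) (hmax : IsLocalMax Φ x) :
    ∃ t : ℝ, 0 < t ∧ Φ ⟨Fan.P.mk τ (seg t), hτ ⟨_, rfl⟩⟩ ≤ Φ x := by
  let γ : ℝ → U := fun t => ⟨Fan.P.mk τ (seg t), hτ ⟨_, rfl⟩⟩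
  have hγ : Continuous γ := by
    apply Continuous.subtype_mk
    exact (continuous_mk τ).comp continuous_seg
  have hγ0 : γ 0 = x := by
    apply Subtype.ext
    change Fan.P.mk τ (seg 0) = x.1
    rw [seg_zero, hx]
  have h1 : ∀ᶠ t in 𝓝 (0 : ℝ), Φ (γ t) ≤ Φ x := by
    have h2 : Tendsto γ (𝓝 0) (𝓝 x) := by
      rw [← hγ0]; exact hγ.continuousAt
    exact h2.eventually hmax
  have h3 : ∃ᶠ t in 𝓝 (0 : ℝ), 0 < t := by
    have : (𝓝[>] (0 : ℝ)).NeBot := inferInstance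
    have h4 : ∃ᶠ t in 𝓝[>] (0 : ℝ), 0 < t :=
      (eventually_mem_nhdsWithin (a := (0:ℝ)) (s := Set.Ioi 0)).frequently
    exact h4.filter_mono nhdsWithin_le_nhds
  obtain ⟨t, ht, ht'⟩ := (h3.and_eventually h1).exists
  exact ⟨t, ht, ht'⟩

theorem le_of_rational_of_isLocalMax (hU : Fan.IsConvex U) (hΦ : Fan.IsQuasiConcaveOn U Φ)
    (x : U) (hxr : (x : Fan.P F).IsRational) (hmax : IsLocalMax Φ x)
    (y : U) (hyr : (y : Fan.P F).IsRational) : Φ y ≤ Φ x := by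
  by_cases hxy : (x : Fan.P F) = y
  · rw [Subtype.ext hxy]
  obtain ⟨τ, hτ, hτx, hτy⟩ := hU.2.2 x y x.2 y.2 hxr hyr hxy
  obtain ⟨t, ht, hle⟩ := exists_seg_le U Φ τ hτ x hτx hmax
  have h0 : Fan.P.mk τ (Fan.Orth.basis Fan.two 0) ∈ U := hτ ⟨_, rfl⟩
  have h2 : Fan.P.mk τ (Fan.Orth.basis Fan.two 1) ∈ U := hτ ⟨_, rfl⟩
  have h1 : Fan.P.mk τ (seg t) ∈ U := hτ ⟨_, rfl⟩
  obtain ⟨hq1, hq2⟩ := hΦ Fan.two τ _ (seg t) _ h0 h1 h2 basis_not_prop
    ⟨1, t, one_pos, ht, seg_eq t ht⟩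
  have ex : (⟨_, h0⟩ : U) = x := Subtype.ext hτx
  have ey : (⟨_, h2⟩ : U) = y := Subtype.ext hτy
  rw [ex, ey] at hq1 hq2
  by_contra hlt
  push Not at hlt
  rw [min_eq_left hlt.le] at hq1 hq2
  exact absurd (hq2 (le_antisymm hle hq1)) hlt.ne

theorem le_of_isLocalMax (hU : Fan.IsConvex U) (hΦ : Fan.IsQuasiConcaveOn U Φ)
    (hlsc : ∀ c : Γ, IsClosed {x : U | Φ x ≤ c})
    (x : U) (hxr : (x : Fan.P F).IsRational) (hmax : IsLocalMax Φ x) (y : U) : Φ y ≤ Φ x := by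
  obtain ⟨S, hS⟩ := hU.2.1
  have hy : (y : Fan.P F) ∈ Set.range (Fan.P.map S.ι) := hS ▸ y.2
  rw [mem_range_ι_iff] at hy
  obtain ⟨n, σ, v, hσ, hyv⟩ := hy
  have hcell : ∀ u : Fan.Orth n, Fan.P.mk σ u ∈ U := by
    intro u
    have : Fan.P.mk σ u ∈ Set.range (Fan.P.map S.ι) := by
      rw [mem_range_ι_iff]
      exact ⟨n, σ, u, hσ, rfl⟩
    exact hS ▸ this
  let g : Fan.Orth n → U := fun u => ⟨Fan.P.mk σ u, hcell u⟩
  have hg : Continuous g := Continuous.subtype_mk (continuous_mk σ) _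
  let C : Set (Fan.Orth n) := g ⁻¹' {z : U | Φ z ≤ Φ x}
  have hC : IsClosed C := (hlsc (Φ x)).preimage hg
  have hv : v ∈ C := by
    apply mem_of_isClosed_of_rational C hC
    intro w hw hw0 c hc u hu
    exact le_of_rational_of_isLocalMax U Φ hU hΦ x hxr hmax (g u)
      (isRational_mk_of_int σ w hw hw0 c hc u hu)
  have : g v = y := Subtype.ext hyv.symm
  rw [← this]
  exact hv

theorem eq_of_isLocalMax_of_strict (hU : Fan.IsConvex U) (hΦ : Fan.IsQuasiConcaveOn U Φ)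
    (hs : Fan.IsStrictQuasiConcaveOn U Φ)
    (x y : U) (hxr : (x : Fan.P F).IsRational) (hyr : (y : Fan.P F).IsRational)
    (hx : IsLocalMax Φ x) (hy : IsLocalMax Φ y) : x = y := by
  by_contra hne
  have hxy : (x : Fan.P F) ≠ y := fun h => hne (Subtype.ext h)
  have hle1 := le_of_rational_of_isLocalMax U Φ hU hΦ x hxr hx y hyr
  have hle2 := le_of_rational_of_isLocalMax U Φ hU hΦ y hyr hy x hxr
  obtain ⟨τ, hτ, hτx, hτy⟩ := hU.2.2 x y x.2 y.2 hxr hyr hxy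
  obtain ⟨t, ht, hle⟩ := exists_seg_le U Φ τ hτ x hτx hx
  have h0 : Fan.P.mk τ (Fan.Orth.basis Fan.two 0) ∈ U := hτ ⟨_, rfl⟩
  have h2 : Fan.P.mk τ (Fan.Orth.basis Fan.two 1) ∈ U := hτ ⟨_, rfl⟩
  have h1 : Fan.P.mk τ (seg t) ∈ U := hτ ⟨_, rfl⟩
  have hq := hs Fan.two τ _ (seg t) _ h0 h1 h2 basis_not_prop ⟨1, t, one_pos, ht, seg_eq t ht⟩
  have ex : (⟨_, h0⟩ : U) = x := Subtype.ext hτx
  have ey : (⟨_, h2⟩ : U) = y := Subtype.ext hτy
  rw [ex, ey, min_eq_left hle2] at hq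
  exact absurd hle (not_le.mpr hq)

end

end Groth.Agent.Lib27.Fan
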