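import Groth.Agent.Lib27.Fan.Cara
import Groth.Agent.Lib27.Fan.Seq

/-!
# The realisation of the fan of a family of rational polyhedral cones (helper27)
-/

set_option autoImplicit false
open CategoryTheory Opposite Instab Finset Filter Topology

namespace Groth.Agent.Lib27.Fan

/-! ### compactness of cells -/

theorem isCompact_simplex (n : ICone) :
    IsCompact {a : Fin n.dim → ℝ | (∀ i, 0 ≤ a i) ∧ ∑ i, a i = 1} := by
  apply IsCompact.of_isClosed_subset (isCompact_Icc (a := (0 : Fin n.dim → ℝ)) (b := 1))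
  · have : {a : Fin n.dim → ℝ | (∀ i, 0 ≤ a i) ∧ ∑ i, a i = 1} =
        (⋂ i, {a : Fin n.dim → ℝ | 0 ≤ a i}) ∩ {a | ∑ i, a i = 1} := by
      ext a; simp
    rw [this]
    apply IsClosed.inter
    · exact isClosed_iInter fun i => isClosed_le continuous_const (continuous_apply i)
    · exact isClosed_eq (continuous_finsetSum _ fun i _ => continuous_apply i) continuous_const
  · rintro a ⟨ha0, ha1⟩
    refine ⟨fun i => ha0 i, fun i => ?_⟩
    change a i ≤ 1
    rw [← ha1]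
    exact Finset.single_le_sum (f := fun i => a i) (fun i _ => ha0 i) (Finset.mem_univ i)

theorem isCompact_osum_one (n : ICone) : IsCompact {v : Fan.Orth n | osum v = 1} := by
  rw [(isEmbedding_val n).isCompact_iff]
  convert isCompact_simplex n using 1
  ext a
  constructor
  · rintro ⟨v, hv, rfl⟩
    exact ⟨v.2.1, hv⟩
  · rintro ⟨h0, h1⟩
    refine ⟨⟨a, h0, ?_⟩, h1, rfl⟩
    intro h
    rw [h] at h1
    simp at h1

universe u in
theorem isCompact_cell {F : Fan.{u}} {n : ICone} (ξ : F.obj (op n)) :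
    IsCompact (Fan.P.cell ξ) := by
  have : Fan.P.cell ξ = Fan.P.mk ξ '' {v : Fan.Orth n | osum v = 1} := by
    ext x
    constructor
    · rintro ⟨v, rfl⟩
      exact ⟨nrm v, osum_nrm v, mk_nrm ξ v⟩
    · rintro ⟨v, _, rfl⟩
      exact ⟨v, rfl⟩
  rw [this]
  exact (isCompact_osum_one n).image (continuous_mk ξ)

/-! ### rays -/

section Rays

variable {N : ℕ}

theorem rays_rel_of_eqvGen (v w : {v : Fin N → ℝ // v ≠ 0})
    (h : Relation.EqvGen (fun v w : {v : Fin N → ℝ // v ≠ 0} => ∃ c : ℝ, 0 < c ∧ w.1 = c • v.1) v w) :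
    ∃ c : ℝ, 0 < c ∧ w.1 = c • v.1 := by
  induction h with
  | rel _ _ h => exact h
  | refl x => exact ⟨1, one_pos, by rw [one_smul]⟩
  | symm x y _ ih =>
    obtain ⟨c, hc, hcy⟩ := ih
    refine ⟨c⁻¹, inv_pos.mpr hc, ?_⟩
    rw [hcy, smul_smul, inv_mul_cancel₀ hc.ne', one_smul]
  | trans x y z _ _ ih1 ih2 =>
    obtain ⟨c, hc, hcy⟩ := ih1
    obtain ⟨d, hd, hdz⟩ := ih2
    exact ⟨d * c, mul_pos hd hc, by rw [hdz, hcy, smul_smul]⟩

theorem rays_mk_eq_iff (v w : {v : Fin N → ℝ // v ≠ 0}) :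
    @Eq (Fan.Rays N) (Quot.mk _ v) (Quot.mk _ w) ↔ ∃ c : ℝ, 0 < c ∧ w.1 = c • v.1 := by
  constructor
  · intro h
    exact rays_rel_of_eqvGen v w (Quot.eqvGen_exact h)
  · intro h
    exact Quot.sound h

/-- normalisation of nonzero vectors -/
noncomputable def nu (v : {v : Fin N → ℝ // v ≠ 0}) : Fin N → ℝ := ‖v.1‖⁻¹ • v.1

theorem continuous_nu : Continuous (nu : {v : Fin N → ℝ // v ≠ 0} → Fin N → ℝ) := by
  change Continuous (fun v : {v : Fin N → ℝ // v ≠ 0} => ‖v.1‖⁻¹ • v.1)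
  have h1 : Continuous (fun v : {v : Fin N → ℝ // v ≠ 0} => ‖v.1‖⁻¹) := by
    apply Continuous.inv₀ (continuous_norm.comp continuous_subtype_val)
    intro v
    exact norm_ne_zero_iff.mpr v.2
  exact h1.smul continuous_subtype_val

/-- normalisation on rays -/
noncomputable def nuBar : Fan.Rays N → Fin N → ℝ :=
  Quot.lift nu (by
    rintro v w ⟨c, hc, h⟩
    unfold nu
    rw [h, norm_smul, Real.norm_of_nonneg hc.le, smul_smul, mul_inv, mul_comm c⁻¹, mul_assoc,
      inv_mul_cancel₀ hc.ne', mul_one])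

theorem continuous_nuBar : Continuous (nuBar : Fan.Rays N → Fin N → ℝ) :=
  continuous_quot_lift _ continuous_nu

theorem nuBar_injective : Function.Injective (nuBar : Fan.Rays N → Fin N → ℝ) := by
  intro r r' h
  obtain ⟨v, rfl⟩ := Quot.exists_rep r
  obtain ⟨w, rfl⟩ := Quot.exists_rep r'
  change ‖v.1‖⁻¹ • v.1 = ‖w.1‖⁻¹ • w.1 at h
  apply (rays_mk_eq_iff v w).mpr
  have hv : 0 < ‖v.1‖ := norm_pos_iff.mpr v.2
  have hw : 0 < ‖w.1‖ := norm_pos_iff.mpr w.2
  refine ⟨‖w.1‖ * ‖v.1‖⁻¹, mul_pos hw (inv_pos.mpr hv), ?_⟩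
  rw [mul_smul, h, smul_smul, mul_inv_cancel₀ hw.ne', one_smul]

instance : T2Space (Fan.Rays N) :=
  T2Space.of_injective_continuous nuBar_injective continuous_nuBar

end Rays

/-! ### the fan `R(K)` -/

section RFan

variable {N : ℕ} {ι : Type} (K : ι → Set (Fin N → ℝ))

theorem toVec_ne_zero (n : ICone) (φ : RFan.Cone K n) (v : Fan.Orth n) :
    RFan.toVec K n φ v.1 ≠ 0 :=
  fun h => v.2.2 (rext_eq_zero φ.1 φ.2.1 v.1 h)

/-- the comparison map to the space of rays -/
noncomputable def gmap : Fan.P (RFan K) → Fan.Rays N :=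
  Quot.lift (fun p : Fan.Pt (RFan K) =>
    (Quot.mk _ ⟨RFan.toVec K p.1.1 p.1.2 p.2.1, toVec_ne_zero K p.1.1 p.1.2 p.2⟩ : Fan.Rays N))
    (by
      rintro _ _ ⟨φ, ξ, v, w, c, hc, h⟩
      apply Quot.sound
      refine ⟨c, hc, ?_⟩
      change rext ξ.1 w.1 = c • rext (ξ.1.comp φ.toLin) v.1
      rw [rext_comp, h, rext_smul]
      rfl)

theorem gmap_mk (n : ICone) (φ : (RFan K).obj (op n)) (v : Fan.Orth n)
    (h : RFan.toVec K n φ v.1 ≠ 0) :
    gmap K (Fan.P.mk φ v) = Quot.mk _ ⟨RFan.toVec K n φ v.1, h⟩ := rfl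

theorem continuous_gmap : Continuous (gmap K) := by
  apply continuous_quot_lift
  apply continuous_sigma
  rintro ⟨n, ξ⟩
  apply continuous_quot_mk.comp
  apply Continuous.subtype_mk
  exact (continuous_rext ξ.1).comp (isEmbedding_val n).continuous

theorem gmap_injective : Function.Injective (gmap K) := by
  intro x x' h
  obtain ⟨n, φ, v, rfl⟩ := P.mk_surjective x
  obtain ⟨n', φ', v', rfl⟩ := P.mk_surjective x'
  rw [gmap_mk K n φ v (toVec_ne_zero K n φ v), gmap_mk K n' φ' v' (toVec_ne_zero K n' φ' v')] at h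
  obtain ⟨c, hc, hcv⟩ := (rays_mk_eq_iff _ _).mp h
  obtain ⟨m, α, β, z, a, b, ha, hb, hαβ, hy, hy'⟩ :=
    exists_common_refinement_gen φ.1 φ'.1 φ.2.1 φ'.2.1 v v' c 1 hc one_pos
      (by rw [one_smul]; exact hcv.symm)
  rw [mk_eq_iff]
  exact ⟨m, α, β, z, a, b, Subtype.ext hαβ, ha, hb, hy, hy'⟩

/-! ### cones from independent sets -/

/-- the linear map `ℤ^T → ℤ^N` of a finite set of vectors -/
noncomputable def linOf (T : Finset (Fin N → ℤ)) : (Fin T.card → ℤ) →ₗ[ℤ] (Fin N → ℤ) :=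
  Fintype.linearCombination ℤ (fun i : Fin T.card => (T.equivFin.symm i).1)

theorem mat_linOf (T : Finset (Fin N → ℤ)) (j : Fin N) (i : Fin T.card) :
    mat (linOf T) j i = (T.equivFin.symm i).1 j := by
  unfold mat linOf
  rw [Fintype.linearCombination_apply_single, one_smul]

theorem sum_equivFin {M : Type*} [AddCommMonoid M] (T : Finset (Fin N → ℤ))
    (f : (Fin N → ℤ) → M) : ∑ i : Fin T.card, f (T.equivFin.symm i).1 = ∑ g ∈ T, f g := by
  rw [← Finset.sum_coe_sort T f]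
  exact Equiv.sum_comp T.equivFin.symm (fun g : T => f g.1)

theorem rext_linOf (T : Finset (Fin N → ℤ)) (d : (Fin N → ℤ) → ℝ) :
    rext (linOf T) (fun i => d (T.equivFin.symm i).1) = ∑ g ∈ T, d g • castV g := by
  rw [← sum_equivFin T (fun g => d g • castV g)]
  funext j
  rw [rext_apply, Finset.sum_apply]
  apply Finset.sum_congr rfl
  intro i _
  rw [mat_linOf, Pi.smul_apply, smul_eq_mul, mul_comm]
  rfl

/-- coefficients indexed by `Fin T.card` as a function on vectors -/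
noncomputable def coef (T : Finset (Fin N → ℤ)) (v : Fin T.card → ℝ) : (Fin N → ℤ) → ℝ := by
  classical
  exact fun g => if hg : g ∈ T then v (T.equivFin ⟨g, hg⟩) else 0

theorem coef_apply (T : Finset (Fin N → ℤ)) (v : Fin T.card → ℝ) (i : Fin T.card) :
    coef T v (T.equivFin.symm i).1 = v i := by
  classical
  unfold coef
  rw [dif_pos (T.equivFin.symm i).2]
  congr 1
  exact T.equivFin.apply_symm_apply i

theorem rext_linOf' (T : Finset (Fin N → ℤ)) (v : Fin T.card → ℝ) :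
    rext (linOf T) v = ∑ g ∈ T, coef T v g • castV g := by
  rw [← rext_linOf T (coef T v)]
  congr 1
  funext i
  exact (coef_apply T v i).symm

theorem coef_nonneg (T : Finset (Fin N → ℤ)) (v : Fin T.card → ℝ) (hv : ∀ i, 0 ≤ v i)
    (g : Fin N → ℤ) : 0 ≤ coef T v g := by
  classical
  unfold coef
  split_ifs
  · exact hv _
  · exact le_refl 0

theorem linOf_injective (T : Finset (Fin N → ℤ)) (h : Indep T) :
    Function.Injective (linOf T) := by
  rw [injective_iff_map_eq_zero]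
  intro x hx
  have h1 : rext (linOf T) (fun i => (x i : ℝ)) = 0 := by
    rw [rext_cast, hx]
    funext j
    simp
  rw [rext_linOf'] at h1
  have h2 := h _ h1
  funext i
  have h3 := h2 (T.equivFin.symm i).1 (T.equivFin.symm i).2
  rw [coef_apply] at h3
  exact_mod_cast h3

/-- the condition for a finite set of vectors to give a cone of `R(K)` -/
def Good (T : Finset (Fin N → ℤ)) : Prop := Indep T ∧ 0 < T.card ∧ ∃ a, fcone T ⊆ K a

/-- the cone of `R(K)` of a good finite set -/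
noncomputable def coneOf (T : Finset (Fin N → ℤ)) (h : Good K T) :
    (RFan K).obj (op (cone T.card h.2.1)) :=
  ⟨linOf T, linOf_injective T h.1, by
    obtain ⟨a, ha⟩ := h.2.2
    refine ⟨a, fun v hv => ha ?_⟩
    have h1 := rext_cast (linOf T) v
    rw [rext_linOf'] at h1
    exact ⟨coef T (fun i => (v i : ℝ)), coef_nonneg T _ (fun i => by exact_mod_cast hv i),
      h1.symm⟩⟩

theorem exists_point_coneOf (T : Finset (Fin N → ℤ)) (h : Good K T) (c : (Fin N → ℤ) → ℝ)
    (hc : ∀ g ∈ T, 0 < c g) :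
    ∃ v : Fan.Orth (cone T.card h.2.1),
      RFan.toVec K _ (coneOf K T h) v.1 = ∑ g ∈ T, c g • castV g := by
  refine ⟨⟨fun i => c (T.equivFin.symm i).1, fun i => (hc _ (T.equivFin.symm i).2).le, ?_⟩, ?_⟩
  · intro h0
    have := congrFun h0 ⟨0, h.2.1⟩
    have h1 := hc _ (T.equivFin.symm ⟨0, h.2.1⟩).2
    change c (T.equivFin.symm ⟨0, h.2.1⟩).1 = 0 at this
    rw [this] at h1
    exact lt_irrefl _ h1
  · exact rext_linOf T c

variable (hK : ∀ a, ∃ (m : ℕ) (gen : Fin m → Finset (Fin N → ℤ)),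
      K a = Set.iUnion fun l => {x | ∃ c : (Fin N → ℤ) → ℝ, (∀ g, 0 ≤ c g) ∧
        x = Finset.sum (gen l) fun g => c g • fun j => (g j : ℝ)})

include hK

theorem isClosed_K (a : ι) : IsClosed (K a) := by
  obtain ⟨m, gen, h⟩ := hK a
  rw [h]
  exact isClosed_iUnion_of_finite fun l => isClosed_fcone (gen l)

theorem K_smul (a : ι) (x : Fin N → ℝ) (hx : x ∈ K a) (t : ℝ) (ht : 0 ≤ t) : t • x ∈ K a := by
  obtain ⟨m, gen, h⟩ := hK a
  rw [h] at hx ⊢
  obtain ⟨l, hl⟩ := Set.mem_iUnion.mp hx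
  exact Set.mem_iUnion.mpr ⟨l, fcone_smul (gen l) x hl t ht⟩

theorem toVec_mem (n : ICone) (φ : RFan.Cone K n) (v : Fan.Orth n) :
    ∃ a, RFan.toVec K n φ v.1 ∈ K a := by
  obtain ⟨a, ha⟩ := φ.2.2
  refine ⟨a, ?_⟩
  let C : Set (Fan.Orth n) := {v | rext φ.1 v.1 ∈ K a}
  have hC : IsClosed C :=
    (isClosed_K K hK a).preimage ((continuous_rext φ.1).comp (isEmbedding_val n).continuous)
  have : v ∈ C := by
    apply mem_of_isClosed_of_rational C hC
    intro w hw hw0 c hc u hu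
    change rext φ.1 u.1 ∈ K a
    rw [hu, rext_smul]
    apply K_smul K hK a _ _ c hc.le
    have := rext_cast φ.1 w
    change rext φ.1 (castVec w) = _ at this
    rw [this]
    exact ha w hw
  exact this

/-- the finite set of generating sets -/
def genSets : Set (Finset (Fin N → ℤ)) :=
  {T | ∃ a, ∃ (m : ℕ) (gen : Fin m → Finset (Fin N → ℤ)) (l : Fin m),
    K a = (Set.iUnion fun l => {x | ∃ c : (Fin N → ℤ) → ℝ, (∀ g, 0 ≤ c g) ∧
        x = Finset.sum (gen l) fun g => c g • fun j => (g j : ℝ)}) ∧ T ⊆ gen l}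

omit hK in
theorem exists_good (a : ι) (T₀ : Finset (Fin N → ℤ)) (hT₀ : fcone T₀ ⊆ K a)
    (x : Fin N → ℝ) (hx : x ∈ fcone T₀) (hx0 : x ≠ 0) :
    ∃ (T : Finset (Fin N → ℤ)) (_ : T ⊆ T₀) (h : Good K T) (v : Fan.Orth (cone T.card h.2.1)),
      RFan.toVec K _ (coneOf K T h) v.1 = x := by
  obtain ⟨c, hc, rfl⟩ := hx
  obtain ⟨T, c', hT, _, hc', hsum, hind⟩ := exists_indep_subset T₀ c hc
  have hcard : 0 < T.card := by
    rw [Finset.card_pos]
    by_contra hne
    rw [Finset.not_nonempty_iff_eq_empty] at hne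
    apply hx0
    change ∑ g ∈ T₀, c g • castV g = 0
    rw [← hsum, hne, Finset.sum_empty]
  have hgood : Good K T := ⟨hind, hcard, a, (fcone_mono hT).trans hT₀⟩
  obtain ⟨v, hv⟩ := exists_point_coneOf K T hgood c' hc'
  exact ⟨T, hT, hgood, v, hv.trans hsum⟩

end RFan

end Groth.Agent.Lib27.Fan
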