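import Groth.Agent.Lib27.Fan.RFanEmb

/-!
# The realisation of `R(K)` embeds in the space of rays (helper27)
-/

set_option autoImplicit false
open CategoryTheory Opposite Instab Finset Filter Topology

namespace Groth.Agent.Lib27.Fan

theorem rfan_main {N : ℕ} {ι : Type} [Finite ι] (K : ι → Set (Fin N → ℝ))
    (hK : ∀ a, ∃ (m : ℕ) (gen : Fin m → Finset (Fin N → ℤ)),
      K a = Set.iUnion fun l => {x | ∃ c : (Fin N → ℤ) → ℝ, (∀ g, 0 ≤ c g) ∧
        x = Finset.sum (gen l) fun g => c g • fun j => (g j : ℝ)}) :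
    ∃ g : Fan.P (RFan K) → Fan.Rays N,
      (∀ (n : ICone) (φ : (RFan K).obj (op n)) (v : Fan.Orth n) (h : RFan.toVec K n φ v.1 ≠ 0),
        g (Fan.P.mk φ v) = Quot.mk _ ⟨RFan.toVec K n φ v.1, h⟩) ∧
      Topology.IsEmbedding g ∧
      Set.range g = {r | ∃ w : {w : Fin N → ℝ // w ≠ 0}, r = Quot.mk _ w ∧ w.1 ∈ Set.iUnion K} := by
  classical
  have hK' := hK
  choose m gen hgen using hK
  let 𝒯 : Set (Finset (Fin N → ℤ)) := ⋃ a, ⋃ l : Fin (m a), ↑(gen a l).powerset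
  have h𝒯 : 𝒯.Finite :=
    Set.finite_iUnion fun a => Set.finite_iUnion fun l => Finset.finite_toSet _
  have key : ∀ a x, x ∈ K a → x ≠ 0 → ∃ T ∈ 𝒯, ∃ (h : Good K T)
      (v : Fan.Orth (cone T.card h.2.1)), RFan.toVec K _ (coneOf K T h) v.1 = x := by
    intro a x hx hx0
    have hx' := hx
    rw [hgen a] at hx'
    obtain ⟨l, hl⟩ := Set.mem_iUnion.mp hx'
    have hsub : fcone (gen a l) ⊆ K a := by
      intro y hy
      rw [hgen a]
      exact Set.mem_iUnion.mpr ⟨l, hy⟩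
    obtain ⟨T, hT, hgood, v, hv⟩ := exists_good K a (gen a l) hsub x hl hx0
    refine ⟨T, ?_, hgood, v, hv⟩
    exact Set.mem_iUnion.mpr ⟨a, Set.mem_iUnion.mpr
      ⟨l, Finset.mem_coe.mpr (Finset.mem_powerset.mpr hT)⟩⟩
  let cellOf : Finset (Fin N → ℤ) → Set (Fan.P (RFan K)) := fun T =>
    if h : Good K T then Fan.P.cell (coneOf K T h) else ∅
  have hcellOf : ∀ T, IsCompact (cellOf T) := by
    intro T
    dsimp only [cellOf]
    split_ifs with h
    · exact isCompact_cell _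
    · exact isCompact_empty
  have hcover : (Set.univ : Set (Fan.P (RFan K))) ⊆ ⋃ T ∈ 𝒯, cellOf T := by
    intro x _
    obtain ⟨n, φ, v, rfl⟩ := P.mk_surjective x
    obtain ⟨a, ha⟩ := toVec_mem K hK' n φ v
    obtain ⟨T, hT, hgood, v', hv'⟩ := key a _ ha (toVec_ne_zero K n φ v)
    refine Set.mem_biUnion hT ?_
    dsimp only [cellOf]
    rw [dif_pos hgood]
    refine ⟨v', ?_⟩
    apply gmap_injective K
    rw [gmap_mk K _ _ v' (toVec_ne_zero K _ _ v'), gmap_mk K n φ v (toVec_ne_zero K n φ v)]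
    exact (rays_mk_eq_iff _ _).mpr ⟨1, one_pos, by rw [one_smul]; exact hv'.symm⟩
  haveI : CompactSpace (Fan.P (RFan K)) := by
    refine ⟨?_⟩
    have h1 := h𝒯.isCompact_biUnion fun T _ => hcellOf T
    rw [Set.eq_univ_of_univ_subset hcover] at h1
    exact h1
  refine ⟨gmap K, fun n φ v h => gmap_mk K n φ v h,
    ((continuous_gmap K).isClosedEmbedding (gmap_injective K)).isEmbedding, ?_⟩
  ext r
  constructor
  · rintro ⟨x, rfl⟩
    obtain ⟨n, φ, v, rfl⟩ := P.mk_surjective x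
    obtain ⟨a, ha⟩ := toVec_mem K hK' n φ v
    exact ⟨⟨RFan.toVec K n φ v.1, toVec_ne_zero K n φ v⟩, rfl, Set.mem_iUnion.mpr ⟨a, ha⟩⟩
  · rintro ⟨w, rfl, hw⟩
    obtain ⟨a, ha⟩ := Set.mem_iUnion.mp hw
    obtain ⟨T, _, hgood, v, hv⟩ := key a w.1 ha w.2
    refine ⟨Fan.P.mk (coneOf K T hgood) v, ?_⟩
    rw [gmap_mk K _ _ v (toVec_ne_zero K _ _ v)]
    exact (rays_mk_eq_iff _ _).mpr ⟨1, one_pos, by rw [one_smul]; exact hv.symm⟩

end Groth.Agent.Lib27.Fan
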