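import Groth.Agent.Lib27.Fan.Maps
import Groth.Prelude.Def_W4c6instabfans3FanCvx

/-!
# Realizable subsets, scaling, local convexity (helper27)
-/

set_option autoImplicit false
universe u
open CategoryTheory Opposite Instab Finset

namespace Groth.Agent.Lib27.Fan

variable {F : Fan.{u}}

theorem mk_eq_of_smul {n : ICone} (ξ : F.obj (op n)) (v w : Fan.Orth n) (c : ℝ) (hc : 0 < c)
    (h : w.1 = c • v.1) : Fan.P.mk ξ v = Fan.P.mk ξ w := by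
  rw [mk_eq_iff]
  exact ⟨n, 𝟙 _, 𝟙 _, v, 1, c, rfl, one_pos, hc, by rw [realMap_id, one_smul],
    by rw [realMap_id]; exact h⟩

theorem mk_map_eq {k n : ICone} (φ : k ⟶ n) (ξ : F.obj (op n)) (y : Fan.Orth k) (v : Fan.Orth n)
    (c : ℝ) (hc : 0 < c) (h : v.1 = c • φ.realMap y.1) :
    Fan.P.mk (F.map φ.op ξ) y = Fan.P.mk ξ v :=
  Quot.sound (Fan.Rel.glue φ ξ y v c hc h)

theorem mem_range_ι_iff (S : Subfunctor F) (x : Fan.P F) :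
    x ∈ Set.range (Fan.P.map S.ι) ↔
      ∃ (n : ICone) (σ : F.obj (op n)) (v : Fan.Orth n), σ ∈ S.obj (op n) ∧ x = Fan.P.mk σ v := by
  constructor
  · rintro ⟨y, rfl⟩
    obtain ⟨n, σ, v, rfl⟩ := P.mk_surjective y
    exact ⟨n, σ.1, v, σ.2, rfl⟩
  · rintro ⟨n, σ, v, hσ, rfl⟩
    exact ⟨Fan.P.mk (F := S.toFunctor) ⟨σ, hσ⟩ v, rfl⟩

theorem isRealizable_inter (U V : Set (Fan.P F)) (hU : Fan.IsRealizable U)
    (hV : Fan.IsRealizable V) : Fan.IsRealizable (U ∩ V) := by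
  obtain ⟨S, rfl⟩ := hU
  obtain ⟨T, rfl⟩ := hV
  refine ⟨S ⊓ T, ?_⟩
  ext x
  simp only [Set.mem_inter_iff, mem_range_ι_iff]
  constructor
  · rintro ⟨⟨n₁, σ₁, v₁, h₁, rfl⟩, ⟨n₂, σ₂, v₂, h₂, hx⟩⟩
    obtain ⟨k, φ₁, φ₂, y, c₁, c₂, e, hc₁, hc₂, e₁, e₂⟩ := (mk_eq_iff σ₁ σ₂ v₁ v₂).mp hx
    refine ⟨k, F.map φ₁.op σ₁, y, ⟨S.map φ₁.op h₁, ?_⟩, (mk_map_eq φ₁ σ₁ y v₁ c₁ hc₁ e₁).symm⟩
    rw [e]
    exact T.map φ₂.op h₂
  · rintro ⟨n, σ, v, ⟨h₁, h₂⟩, rfl⟩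
    exact ⟨⟨n, σ, v, h₁, rfl⟩, ⟨n, σ, v, h₂, rfl⟩⟩

theorem isRealizable_iUnion (ι : Type u) (U : ι → Set (Fan.P F))
    (hU : ∀ i, Fan.IsRealizable (U i)) : Fan.IsRealizable (Set.iUnion U) := by
  choose S hS using hU
  refine ⟨⨆ i, S i, ?_⟩
  ext x
  simp only [Set.mem_iUnion, mem_range_ι_iff, hS]
  constructor
  · rintro ⟨i, n, σ, v, h, rfl⟩
    refine ⟨n, σ, v, ?_, rfl⟩
    simp only [Subfunctor.iSup_obj, Set.mem_iUnion]
    exact ⟨i, h⟩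
  · rintro ⟨n, σ, v, h, rfl⟩
    simp only [Subfunctor.iSup_obj, Set.mem_iUnion] at h
    obtain ⟨i, h⟩ := h
    exact ⟨i, n, σ, v, h, rfl⟩

theorem isLocallyConvex_iff (U : Set (Fan.P F)) :
    Fan.IsLocallyConvex U ↔
      ∀ (n : ICone) (ξ : F.obj (op n)),
        Convex ℝ {v : Fin n.dim → ℝ | ∃ h : (∀ i, 0 ≤ v i) ∧ v ≠ 0,
          Fan.P.mk ξ (⟨v, h⟩ : Fan.Orth n) ∈ U} := by
  constructor
  · intro hU n ξ v₀ ⟨h₀, hv₀⟩ v₂ ⟨h₂, hv₂⟩ a b ha hb hab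
    rcases ha.eq_or_lt with ha0 | ha0
    · subst ha0
      rw [zero_add] at hab
      subst hab
      rw [zero_smul, zero_add, one_smul]
      exact ⟨h₂, hv₂⟩
    rcases hb.eq_or_lt with hb0 | hb0
    · subst hb0
      rw [add_zero] at hab
      subst hab
      rw [zero_smul, add_zero, one_smul]
      exact ⟨h₀, hv₀⟩
    have h1 : (∀ i, 0 ≤ (a • v₀ + b • v₂) i) ∧ a • v₀ + b • v₂ ≠ 0 := by
      constructor
      · intro i
        exact add_nonneg (mul_nonneg ha (h₀.1 i)) (mul_nonneg hb (h₂.1 i))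
      · intro h
        apply h₀.2
        funext i
        have hi := congrFun h i
        simp only [Pi.add_apply, Pi.smul_apply, smul_eq_mul, Pi.zero_apply] at hi
        have := mul_nonneg ha (h₀.1 i)
        have := mul_nonneg hb (h₂.1 i)
        have h3 : a * v₀ i = 0 := by linarith
        rcases mul_eq_zero.mp h3 with h4 | h4
        · exact absurd h4 ha0.ne'
        · exact h4
    exact ⟨h1, hU n ξ ⟨v₀, h₀⟩ ⟨_, h1⟩ ⟨v₂, h₂⟩ hv₀ hv₂ ⟨a, b, ha0, hb0, rfl⟩⟩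
  · intro hU n ξ v₀ v₁ v₂ hv₀ hv₂ ⟨a, b, ha, hb, hab⟩
    have hs : 0 < a + b := add_pos ha hb
    have h1 := hU n ξ (x := v₀.1) ⟨v₀.2, hv₀⟩ (y := v₂.1) ⟨v₂.2, hv₂⟩
      (a := a / (a + b)) (b := b / (a + b)) (div_pos ha hs).le (div_pos hb hs).le
      (by rw [← add_div, div_self hs.ne'])
    obtain ⟨h2, h3⟩ := h1
    have h4 : v₁.1 = (a + b) • ((a / (a + b)) • v₀.1 + (b / (a + b)) • v₂.1) := by
      rw [hab, smul_add, smul_smul, smul_smul, mul_div_cancel₀ _ hs.ne', mul_div_cancel₀ _ hs.ne']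
    rw [← mk_eq_of_smul ξ ⟨_, h2⟩ v₁ (a + b) hs h4]
    exact h3

end Groth.Agent.Lib27.Fan
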