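import Groth.Agent.Lib27.Fan.Core

/-!
# Common refinements of cone morphisms (helper27)
-/

set_option autoImplicit false
universe u
open CategoryTheory Opposite Instab Finset

namespace Groth.Agent.Lib27.Fan

theorem map_comp_op (F : Fan.{u}) {m k n : ICone} (α : m ⟶ k) (φ : k ⟶ n) (x : F.obj (op n)) :
    F.map (α ≫ φ).op x = F.map α.op (F.map φ.op x) := by
  rw [op_comp, FunctorToTypes.map_comp_apply]

theorem map_id_op (F : Fan.{u}) {n : ICone} (x : F.obj (op n)) :
    F.map (𝟙 n : n ⟶ n).op x = x := by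
  rw [op_id, FunctorToTypes.map_id_apply]

/-- the cone `[m]` -/
abbrev cone (m : ℕ) (hm : 0 < m) : ICone := ⟨⟨m, hm⟩⟩

theorem exists_common_refinement {k k' n : ICone} (φ : k ⟶ n) (ψ : k' ⟶ n)
    (y : Fan.Orth k) (y' : Fan.Orth k') (c c' : ℝ) (hc : 0 < c) (hc' : 0 < c')
    (h : c • φ.realMap y.1 = c' • ψ.realMap y'.1) :
    ∃ (m : ICone) (α : m ⟶ k) (β : m ⟶ k') (z : Fan.Orth m) (a b : ℝ),
      0 < a ∧ 0 < b ∧ α ≫ φ = β ≫ ψ ∧ y.1 = a • α.realMap z.1 ∧ y'.1 = b • β.realMap z.1 := by
  classical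
  let p : (Fin k.dim ⊕ Fin k'.dim) → ℝ := Sum.elim (c • y.1) (c' • y'.1)
  have hp0 : ∀ j, 0 ≤ p j := by
    rintro (l | l)
    · exact mul_nonneg hc.le (y.2.1 l)
    · exact mul_nonneg hc'.le (y'.2.1 l)
  have hp : p ≠ 0 := by
    intro hp
    apply y.2.2
    funext l
    have := congrFun hp (Sum.inl l)
    change c * y.1 l = 0 at this
    rcases mul_eq_zero.mp this with h1 | h1
    · exact absurd h1 hc.ne'
    · exact h1
  obtain ⟨m, hm, G, t, ht0, hpt, hGpos, hrel, hind⟩ := Lin.exists_integral_decomposition p hp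
  -- G ≥ 0
  have hG0 : ∀ i j, 0 ≤ G i j := by
    intro i j
    rcases (hp0 j).lt_or_eq with h1 | h1
    · exact (hGpos i j h1).le
    · have h2 := hrel (Pi.single j 1) (by
        rw [Finset.sum_eq_single j]
        · simp [← h1]
        · intro j' _ hj'
          simp [Pi.single_apply, hj']
        · intro hh; exact absurd (Finset.mem_univ j) hh) i
      rw [Finset.sum_eq_single j] at h2
      · simp at h2; rw [h2]
      · intro j' _ hj'
        simp [Pi.single_apply, hj']
      · intro hh; exact absurd (Finset.mem_univ j) hh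
  -- the relations
  have hrel2 : ∀ (j' : Fin n.dim) (i : Fin m),
      ∑ l, ent φ j' l * G i (Sum.inl l) = ∑ l, ent ψ j' l * G i (Sum.inr l) := by
    intro j' i
    have h1 := hrel (Sum.elim (ent φ j') (fun l => - ent ψ j' l)) (by
      rw [Fintype.sum_sum_type]
      have h2 := congrFun h j'
      simp only [Pi.smul_apply, smul_eq_mul, realMap_apply, Finset.mul_sum] at h2
      simp only [Sum.elim_inl, Sum.elim_inr, p, Pi.smul_apply, smul_eq_mul]
      push_cast
      have e1 : ∑ x, (ent φ j' x : ℝ) * (c * y.1 x) = ∑ x, c * ((ent φ j' x : ℝ) * y.1 x) :=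
        Finset.sum_congr rfl fun x _ => by ring
      have e2 : ∑ x, -(ent ψ j' x : ℝ) * (c' * y'.1 x)
          = - ∑ x, c' * ((ent ψ j' x : ℝ) * y'.1 x) := by
        rw [← Finset.sum_neg_distrib]
        exact Finset.sum_congr rfl fun x _ => by ring
      rw [e1, e2, h2]; ring) i
    rw [Fintype.sum_sum_type] at h1
    simp only [Sum.elim_inl, Sum.elim_inr, neg_mul, Finset.sum_neg_distrib] at h1
    linarith
  -- injectivity
  have hinjα : ∀ x : Fin m → ℤ, (∀ l, ∑ i, G i (Sum.inl l) * x i = 0) → x = 0 := by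
    intro x hx
    apply hind
    have hu : (fun l' => ∑ i, G i (Sum.inr l') * x i) = 0 := by
      apply ψ.injective
      rw [map_zero]
      funext j'
      rw [toLin_apply]
      change ∑ l', ent ψ j' l' * ∑ i, G i (Sum.inr l') * x i = 0
      calc ∑ l', ent ψ j' l' * ∑ i, G i (Sum.inr l') * x i
          = ∑ i, x i * ∑ l', ent ψ j' l' * G i (Sum.inr l') := by
            simp_rw [Finset.mul_sum]
            rw [Finset.sum_comm]
            exact Finset.sum_congr rfl fun i _ => Finset.sum_congr rfl fun l _ => by ring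
        _ = ∑ i, x i * ∑ l, ent φ j' l * G i (Sum.inl l) := by simp_rw [hrel2]
        _ = ∑ l, ent φ j' l * ∑ i, G i (Sum.inl l) * x i := by
            simp_rw [Finset.mul_sum]
            rw [Finset.sum_comm]
            exact Finset.sum_congr rfl fun i _ => Finset.sum_congr rfl fun l _ => by ring
        _ = 0 := by simp [hx]
    rintro (l | l)
    · rw [← hx l]; exact Finset.sum_congr rfl fun i _ => by ring
    · have := congrFun hu l
      change ∑ i, G i (Sum.inr l) * x i = 0 at this
      rw [← this]; exact Finset.sum_congr rfl fun i _ => by ring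
  have hinjβ : ∀ x : Fin m → ℤ, (∀ l, ∑ i, G i (Sum.inr l) * x i = 0) → x = 0 := by
    intro x hx
    apply hind
    have hu : (fun l' => ∑ i, G i (Sum.inl l') * x i) = 0 := by
      apply φ.injective
      rw [map_zero]
      funext j'
      rw [toLin_apply]
      change ∑ l', ent φ j' l' * ∑ i, G i (Sum.inl l') * x i = 0
      calc ∑ l', ent φ j' l' * ∑ i, G i (Sum.inl l') * x i
          = ∑ i, x i * ∑ l', ent φ j' l' * G i (Sum.inl l') := by
            simp_rw [Finset.mul_sum]
            rw [Finset.sum_comm]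
            exact Finset.sum_congr rfl fun i _ => Finset.sum_congr rfl fun l _ => by ring
        _ = ∑ i, x i * ∑ l, ent ψ j' l * G i (Sum.inr l) := by simp_rw [hrel2]
        _ = ∑ l, ent ψ j' l * ∑ i, G i (Sum.inr l) * x i := by
            simp_rw [Finset.mul_sum]
            rw [Finset.sum_comm]
            exact Finset.sum_congr rfl fun i _ => Finset.sum_congr rfl fun l _ => by ring
        _ = 0 := by simp [hx]
    rintro (l | l)
    · have := congrFun hu l
      change ∑ i, G i (Sum.inl l) * x i = 0 at this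
      rw [← this]; exact Finset.sum_congr rfl fun i _ => by ring
    · rw [← hx l]; exact Finset.sum_congr rfl fun i _ => by ring
  let α : cone m hm ⟶ k :=
    ofMat hm k.dim.pos (fun i l => G i (Sum.inl l)) (fun i l => hG0 i _) hinjα
  let β : cone m hm ⟶ k' :=
    ofMat hm k'.dim.pos (fun i l => G i (Sum.inr l)) (fun i l => hG0 i _) hinjβ
  have hentα : ∀ l i, ent α l i = G i (Sum.inl l) := fun l i => ent_ofMat _ _ _ _ _ l i
  have hentβ : ∀ l i, ent β l i = G i (Sum.inr l) := fun l i => ent_ofMat _ _ _ _ _ l i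
  have ht : t ≠ 0 := by
    intro ht
    apply hp
    funext j
    rw [hpt j]
    simp [ht]
  refine ⟨cone m hm, α, β, ⟨t, ht0, ht⟩, c⁻¹, c'⁻¹, inv_pos.mpr hc, inv_pos.mpr hc', ?_, ?_, ?_⟩
  · apply ICone.Hom.ext
    apply LinearMap.ext
    intro x
    funext j'
    rw [comp_toLin, comp_toLin, LinearMap.comp_apply, LinearMap.comp_apply, toLin_apply,
      toLin_apply]
    simp_rw [toLin_apply α, toLin_apply β, hentα, hentβ]
    calc ∑ l, ent φ j' l * ∑ i, G i (Sum.inl l) * x i
        = ∑ i, x i * ∑ l, ent φ j' l * G i (Sum.inl l) := by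
          simp_rw [Finset.mul_sum]
          rw [Finset.sum_comm]
          exact Finset.sum_congr rfl fun i _ => Finset.sum_congr rfl fun l _ => by ring
      _ = ∑ i, x i * ∑ l, ent ψ j' l * G i (Sum.inr l) := by simp_rw [hrel2]
      _ = ∑ l, ent ψ j' l * ∑ i, G i (Sum.inr l) * x i := by
          simp_rw [Finset.mul_sum]
          rw [Finset.sum_comm]
          exact Finset.sum_congr rfl fun i _ => Finset.sum_congr rfl fun l _ => by ring
  · funext l
    rw [Pi.smul_apply, realMap_apply, smul_eq_mul]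
    simp_rw [hentα]
    have h1 := hpt (Sum.inl l)
    change c * y.1 l = _ at h1
    have h2 : ∑ i, ((G i (Sum.inl l) : ℤ) : ℝ) * t i = c * y.1 l := by
      rw [h1]; exact Finset.sum_congr rfl fun i _ => by ring
    change y.1 l = c⁻¹ * ∑ i, ((G i (Sum.inl l) : ℤ) : ℝ) * t i
    rw [h2, ← mul_assoc, inv_mul_cancel₀ hc.ne', one_mul]
  · funext l
    rw [Pi.smul_apply, realMap_apply, smul_eq_mul]
    simp_rw [hentβ]
    have h1 := hpt (Sum.inr l)
    change c' * y'.1 l = _ at h1
    have h2 : ∑ i, ((G i (Sum.inr l) : ℤ) : ℝ) * t i = c' * y'.1 l := by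
      rw [h1]; exact Finset.sum_congr rfl fun i _ => by ring
    change y'.1 l = c'⁻¹ * ∑ i, ((G i (Sum.inr l) : ℤ) : ℝ) * t i
    rw [h2, ← mul_assoc, inv_mul_cancel₀ hc'.ne', one_mul]

end Groth.Agent.Lib27.Fan
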