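import Groth.Agent.Lib27.Fan.Top

/-!
# Real linear maps of cone morphisms, representable fans (helper27)
-/

set_option autoImplicit false
universe u
open CategoryTheory Opposite Instab Finset Filter Topology

namespace Groth.Agent.Lib27.Fan

variable {k n m : ICone}

theorem realMap_add (φ : k ⟶ n) (v w : Fin k.dim → ℝ) :
    φ.realMap (v + w) = φ.realMap v + φ.realMap w := by
  funext j
  rw [Pi.add_apply, realMap_apply, realMap_apply, realMap_apply, ← Finset.sum_add_distrib]
  apply Finset.sum_congr rfl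
  intro i _
  rw [Pi.add_apply]
  ring

/-- the real linear map of a cone morphism -/
def realLin (φ : k ⟶ n) : (Fin k.dim → ℝ) →ₗ[ℝ] (Fin n.dim → ℝ) where
  toFun := φ.realMap
  map_add' := realMap_add φ
  map_smul' c v := realMap_smul φ c v

theorem realLin_apply (φ : k ⟶ n) (v : Fin k.dim → ℝ) : realLin φ v = φ.realMap v := rfl

theorem realMap_eq_zero (φ : k ⟶ n) (x : Fin k.dim → ℝ) (hx : φ.realMap x = 0) : x = 0 := by
  by_contra hx0
  obtain ⟨m, hm, G, t, ht0, hpt, hGpos, hrel, hind⟩ := Lin.exists_integral_decomposition x hx0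
  have hG : ∀ i, G i = 0 := by
    intro i
    apply φ.injective
    rw [map_zero]
    funext j'
    rw [toLin_apply]
    exact hrel (ent φ j') (by
      have := congrFun hx j'
      rw [realMap_apply] at this
      exact this) i
  apply hx0
  funext j
  rw [hpt j]
  simp [hG]

theorem realMap_injective (φ : k ⟶ n) : Function.Injective φ.realMap := by
  intro v w h
  have h1 : φ.realMap (v - w) = 0 := by
    have := (realLin φ).map_sub v w
    rw [realLin_apply, realLin_apply, realLin_apply, h, sub_self] at this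
    exact this
  exact sub_eq_zero.mp (realMap_eq_zero φ _ h1)

/-- the map of punctured orthants of a cone morphism -/
def omap (φ : k ⟶ n) (y : Fan.Orth k) : Fan.Orth n :=
  ⟨φ.realMap y.1, realMap_nonneg φ y.1 y.2.1, fun h => y.2.2 (realMap_eq_zero φ y.1 h)⟩

theorem omap_val (φ : k ⟶ n) (y : Fan.Orth k) : (omap φ y).1 = φ.realMap y.1 := rfl

theorem continuous_realMap (φ : k ⟶ n) : Continuous φ.realMap :=
  (realLin φ).continuous_of_finiteDimensional

theorem continuous_omap (φ : k ⟶ n) : Continuous (omap φ) := by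
  rw [(isEmbedding_val n).continuous_iff]
  exact (continuous_realMap φ).comp continuous_subtype_val

theorem isClosedEmbedding_realMap (φ : k ⟶ n) : IsClosedEmbedding φ.realMap := by
  apply LinearMap.isClosedEmbedding_of_injective (f := realLin φ)
  rw [LinearMap.ker_eq_bot]
  exact realMap_injective φ

/-- the image of a closed set of the punctured orthant under a cone morphism is closed -/
theorem isClosed_omap_image (φ : k ⟶ n) (Z : Set (Fan.Orth k)) (hZ : IsClosed Z) :
    IsClosed {v : Fan.Orth n | ∃ y ∈ Z, v.1 = φ.realMap y.1} := by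
  obtain ⟨C, hC, hCZ⟩ := (isEmbedding_val k).isInducing.isClosed_iff.mp hZ
  let C' : Set (Fin k.dim → ℝ) := C ∩ {y | ∀ i, 0 ≤ y i}
  have hC' : IsClosed C' := by
    apply hC.inter
    have : {y : Fin k.dim → ℝ | ∀ i, 0 ≤ y i} = ⋂ i, {y | 0 ≤ y i} := by
      ext y; simp
    rw [this]
    exact isClosed_iInter fun i => isClosed_le continuous_const (continuous_apply i)
  have h1 : IsClosed (φ.realMap '' C') := (isClosedEmbedding_realMap φ).isClosedMap _ hC'
  have h2 : {v : Fan.Orth n | ∃ y ∈ Z, v.1 = φ.realMap y.1} =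
      (fun v : Fan.Orth n => v.1) ⁻¹' (φ.realMap '' C') := by
    ext v
    constructor
    · rintro ⟨y, hy, hv⟩
      refine ⟨y.1, ⟨?_, y.2.1⟩, hv.symm⟩
      rw [← hCZ] at hy
      exact hy
    · rintro ⟨y, ⟨hyC, hy0⟩, hv⟩
      have hyne : y ≠ 0 := by
        intro h
        apply v.2.2
        change φ.realMap y = v.1 at hv
        rw [← hv, h]
        exact (realLin φ).map_zero
      refine ⟨⟨y, hy0, hyne⟩, ?_, hv.symm⟩
      rw [← hCZ]
      exact hyC
  rw [h2]
  exact h1.preimage (isEmbedding_val n).continuous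

/-! ### Representable fans -/

/-- the representable fan `h_[n]` -/
abbrev yo (n : ICone) : Fan.{u} := uliftYoneda.{u}.obj n

theorem yo_map (β : m ⟶ k) (φ : k ⟶ n) :
    (yo.{u} n).map β.op (ULift.up φ) = ULift.up (β ≫ φ) := rfl

theorem coneMap_app {F : Fan.{u}} (σ : F.obj (op n)) (φ : k ⟶ n) :
    (Fan.coneMap σ).app (op k) (ULift.up φ) = F.map φ.op σ := rfl

theorem coneMap_comp {F G : Fan.{u}} (f : F ⟶ G) (σ : F.obj (op n)) :
    Fan.coneMap σ ≫ f = Fan.coneMap (f.app _ σ) :=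
  uliftYonedaEquiv_symm_comp σ f

theorem yo_mk_eq_iff (φ : k ⟶ n) (ψ : m ⟶ n) (y : Fan.Orth k) (y' : Fan.Orth m) :
    Fan.P.mk (F := yo.{u} n) (ULift.up φ) y = Fan.P.mk (F := yo.{u} n) (ULift.up ψ) y' ↔
      ∃ c : ℝ, 0 < c ∧ ψ.realMap y'.1 = c • φ.realMap y.1 := by
  rw [mk_eq_iff]
  constructor
  · rintro ⟨l, α, β, z, a, b, h1, ha, hb, h2, h3⟩
    rw [yo_map, yo_map] at h1
    have h1' : α ≫ φ = β ≫ ψ := congrArg ULift.down h1
    refine ⟨b / a, div_pos hb ha, ?_⟩
    rw [h2, h3, realMap_smul, realMap_smul, ← realMap_comp, ← realMap_comp, h1', smul_smul,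
      div_mul_cancel₀ _ ha.ne']
  · rintro ⟨c, hc, h⟩
    obtain ⟨l, α, β, z, a, b, ha, hb, hαβ, hy, hy'⟩ :=
      exists_common_refinement φ ψ y y' c 1 hc one_pos (by rw [one_smul, h])
    refine ⟨l, α, β, z, a, b, ?_, ha, hb, hy, hy'⟩
    rw [yo_map, yo_map, hαβ]

theorem yo_mk_eq_id (φ : k ⟶ n) (y : Fan.Orth k) :
    Fan.P.mk (F := yo.{u} n) (ULift.up φ) y = Fan.P.mk (F := yo.{u} n) (ULift.up (𝟙 n)) (omap φ y) := by
  rw [yo_mk_eq_iff]
  exact ⟨1, one_pos, by rw [realMap_id, one_smul]; rfl⟩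

theorem yo_isBounded (n : ICone) : Fan.IsBounded (yo.{u} n) := by
  classical
  refine ⟨{⟨n, ULift.up (𝟙 n)⟩}, ?_⟩
  intro x
  obtain ⟨k, ⟨φ⟩, y, rfl⟩ := P.mk_surjective x
  refine ⟨⟨n, ULift.up (𝟙 n)⟩, Finset.mem_singleton_self _, omap φ y, ?_⟩
  exact (yo_mk_eq_id φ y).symm

theorem map_coneMap_mk {F : Fan.{u}} (σ : F.obj (op n)) (v : Fan.Orth n) :
    Fan.P.map (Fan.coneMap σ) (Fan.P.mk (F := yo.{u} n) (ULift.up (𝟙 n)) v) = Fan.P.mk σ v := by
  rw [P.map_mk, coneMap_app, map_id_op]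

end Groth.Agent.Lib27.Fan
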