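import Groth.Agent.Lib27.Fan.Refine

/-!
# Equality in the projective realisation: common sub-cones (helper27)
-/

set_option autoImplicit false
universe u
open CategoryTheory Opposite Instab Finset

namespace Groth.Agent.Lib27.Fan

variable (F : Fan.{u})

/-- two points of the disjoint union lie in a common sub-cone -/
def S (p₁ p₂ : Fan.Pt F) : Prop :=
  ∃ (k : ICone) (φ₁ : k ⟶ p₁.1.1) (φ₂ : k ⟶ p₂.1.1) (y : Fan.Orth k) (c₁ c₂ : ℝ),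
    F.map φ₁.op p₁.1.2 = F.map φ₂.op p₂.1.2 ∧ 0 < c₁ ∧ 0 < c₂ ∧
      p₁.2.1 = c₁ • φ₁.realMap y.1 ∧ p₂.2.1 = c₂ • φ₂.realMap y.1

variable {F}

theorem S.refl (p : Fan.Pt F) : S F p p :=
  ⟨p.1.1, 𝟙 _, 𝟙 _, p.2, 1, 1, rfl, one_pos, one_pos, by rw [realMap_id, one_smul],
    by rw [realMap_id, one_smul]⟩

theorem S.symm {p₁ p₂ : Fan.Pt F} (h : S F p₁ p₂) : S F p₂ p₁ := by
  obtain ⟨k, φ₁, φ₂, y, c₁, c₂, h1, h2, h3, h4, h5⟩ := h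
  exact ⟨k, φ₂, φ₁, y, c₂, c₁, h1.symm, h3, h2, h5, h4⟩

theorem S.of_rel {p₁ p₂ : Fan.Pt F} (h : Fan.Rel F p₁ p₂) : S F p₁ p₂ := by
  obtain ⟨φ, ξ, v, w, c, hc, h⟩ := h
  exact ⟨_, 𝟙 _, φ, v, 1, c, map_id_op F _, one_pos, hc, by rw [realMap_id, one_smul], h⟩

theorem S.trans {p₁ p₂ p₃ : Fan.Pt F} (h : S F p₁ p₂) (h' : S F p₂ p₃) : S F p₁ p₃ := by
  obtain ⟨k, φ₁, φ₂, y, c₁, c₂, h1, h2, h3, h4, h5⟩ := h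
  obtain ⟨k', ψ₂, ψ₃, y', d₂, d₃, g1, g2, g3, g4, g5⟩ := h'
  obtain ⟨m, α, β, z, a, b, ha, hb, hαβ, hy, hy'⟩ :=
    exists_common_refinement φ₂ ψ₂ y y' c₂ d₂ h3 g2 (by rw [← h5, ← g4])
  refine ⟨m, α ≫ φ₁, β ≫ ψ₃, z, c₁ * a, d₃ * b, ?_, mul_pos h2 ha, mul_pos g3 hb, ?_, ?_⟩
  · rw [map_comp_op, map_comp_op, h1, ← g1, ← map_comp_op, ← map_comp_op, hαβ]
  · rw [h4, hy, realMap_smul, realMap_comp, smul_smul]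
  · rw [g5, hy', realMap_smul, realMap_comp, smul_smul]

theorem S.of_eqvGen {p₁ p₂ : Fan.Pt F} (h : Relation.EqvGen (Fan.Rel F) p₁ p₂) : S F p₁ p₂ := by
  induction h with
  | rel _ _ h => exact S.of_rel h
  | refl p => exact S.refl p
  | symm _ _ _ ih => exact ih.symm
  | trans _ _ _ _ _ ih1 ih2 => exact ih1.trans ih2

theorem S.of_quot_eq {p₁ p₂ : Fan.Pt F} (h : (Quot.mk (Fan.Rel F) p₁ : Fan.P F) = Quot.mk _ p₂) :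
    S F p₁ p₂ :=
  S.of_eqvGen (Quot.eqvGen_exact h)

theorem S.quot_eq {p₁ p₂ : Fan.Pt F} (h : S F p₁ p₂) :
    (Quot.mk (Fan.Rel F) p₁ : Fan.P F) = Quot.mk _ p₂ := by
  obtain ⟨k, φ₁, φ₂, y, c₁, c₂, h1, h2, h3, h4, h5⟩ := h
  obtain ⟨⟨n₁, ξ₁⟩, v₁⟩ := p₁
  obtain ⟨⟨n₂, ξ₂⟩, v₂⟩ := p₂
  have e1 : (Quot.mk (Fan.Rel F) ⟨⟨k, F.map φ₁.op ξ₁⟩, y⟩ : Fan.P F) = Quot.mk _ ⟨⟨n₁, ξ₁⟩, v₁⟩ :=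
    Quot.sound (Fan.Rel.glue φ₁ ξ₁ y v₁ c₁ h2 h4)
  have e2 : (Quot.mk (Fan.Rel F) ⟨⟨k, F.map φ₂.op ξ₂⟩, y⟩ : Fan.P F) = Quot.mk _ ⟨⟨n₂, ξ₂⟩, v₂⟩ :=
    Quot.sound (Fan.Rel.glue φ₂ ξ₂ y v₂ c₂ h3 h5)
  rw [← e1, ← e2]
  change (Quot.mk (Fan.Rel F) ⟨⟨k, F.map φ₁.op ξ₁⟩, y⟩ : Fan.P F) = Quot.mk _ ⟨⟨k, F.map φ₂.op ξ₂⟩, y⟩
  have h1' : F.map φ₁.op ξ₁ = F.map φ₂.op ξ₂ := h1
  rw [h1']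

theorem mk_eq_iff {n₁ n₂ : ICone} (σ₁ : F.obj (op n₁)) (σ₂ : F.obj (op n₂))
    (v₁ : Fan.Orth n₁) (v₂ : Fan.Orth n₂) :
    Fan.P.mk σ₁ v₁ = Fan.P.mk σ₂ v₂ ↔
    ∃ (k : ICone) (φ₁ : k ⟶ n₁) (φ₂ : k ⟶ n₂) (y : Fan.Orth k) (c₁ c₂ : ℝ),
      F.map φ₁.op σ₁ = F.map φ₂.op σ₂ ∧ 0 < c₁ ∧ 0 < c₂ ∧
        v₁.1 = c₁ • φ₁.realMap y.1 ∧ v₂.1 = c₂ • φ₂.realMap y.1 :=
  ⟨fun h => S.of_quot_eq (p₁ := ⟨⟨n₁, σ₁⟩, v₁⟩) (p₂ := ⟨⟨n₂, σ₂⟩, v₂⟩) h,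
   fun h => S.quot_eq (p₁ := ⟨⟨n₁, σ₁⟩, v₁⟩) (p₂ := ⟨⟨n₂, σ₂⟩, v₂⟩) h⟩

theorem P.mk_surjective (x : Fan.P F) : ∃ (n : ICone) (σ : F.obj (op n)) (v : Fan.Orth n),
    x = Fan.P.mk σ v := by
  obtain ⟨⟨⟨n, σ⟩, v⟩, rfl⟩ := Quot.exists_rep x
  exact ⟨n, σ, v, rfl⟩

theorem P.map_mk {G : Fan.{u}} (f : F ⟶ G) {n : ICone} (σ : F.obj (op n)) (v : Fan.Orth n) :
    Fan.P.map f (Fan.P.mk σ v) = Fan.P.mk (f.app _ σ) v := rfl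

end Groth.Agent.Lib27.Fan
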