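import Groth.Agent.Lib27.Fan.Realiz
import Mathlib.Analysis.SpecificLimits.Basic
import Mathlib.Topology.Algebra.Module.FiniteDimension

/-!
# Topology of the projective realisation; rational rays (helper27)
-/

set_option autoImplicit false
universe u
open CategoryTheory Opposite Instab Finset Filter Topology

namespace Groth.Agent.Lib27.Fan

variable {F G : Fan.{u}}

theorem continuous_mk {n : ICone} (ξ : F.obj (op n)) :
    Continuous (Fan.P.mk ξ : Fan.Orth n → Fan.P F) :=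
  (continuous_quot_mk (r := Fan.Rel F)).comp
    (continuous_sigmaMk (σ := fun e : (Σ n : ICone, F.obj (op n)) => Fan.Orth e.1)
      (i := ⟨n, ξ⟩))

theorem isClosed_iff (S : Set (Fan.P F)) :
    IsClosed S ↔ ∀ (n : ICone) (ξ : F.obj (op n)), IsClosed (Fan.P.mk ξ ⁻¹' S) := by
  refine (isQuotientMap_quot_mk (r := Fan.Rel F)).isClosed_preimage.symm.trans ?_
  refine (isClosed_sigma_iff (σ := fun e : (Σ n : ICone, F.obj (op n)) => Fan.Orth e.1)
    (s := Quot.mk (Fan.Rel F) ⁻¹' S)).trans ?_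
  constructor
  · intro h n ξ
    exact h ⟨n, ξ⟩
  · rintro h ⟨n, ξ⟩
    exact h n ξ

theorem continuous_map (f : F ⟶ G) : Continuous (Fan.P.map f) := by
  apply continuous_quot_lift
  apply (continuous_quot_mk (r := Fan.Rel G)).comp
  apply continuous_sigma
  rintro ⟨n, ξ⟩
  exact continuous_sigmaMk (σ := fun e : (Σ n : ICone, G.obj (op n)) => Fan.Orth e.1)
      (i := ⟨n, f.app _ ξ⟩)

theorem isEmbedding_val (n : ICone) : IsEmbedding (fun v : Fan.Orth n => v.1) :=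
  IsEmbedding.subtypeVal

/-- the integer vector `w` as a real vector -/
def castVec {n : ICone} (w : Fin n.dim → ℤ) : Fin n.dim → ℝ := fun i => (w i : ℝ)

/-- the ray `[1] ⟶ [n]` spanned by a nonzero nonnegative integer vector -/
noncomputable def ray {n : ICone} (w : Fin n.dim → ℤ) (hw : ∀ i, 0 ≤ w i) (hw0 : w ≠ 0) :
    Fan.one ⟶ n :=
  (ofMat one_pos n.dim.pos (fun _ l => w l) (fun _ l => hw l) (by
    intro x hx
    obtain ⟨l, hl⟩ : ∃ l, w l ≠ 0 := by
      by_contra hcon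
      push Not at hcon
      exact hw0 (funext hcon)
    have h1 := hx l
    rw [Fin.sum_univ_one] at h1
    funext i
    have : i = 0 := Subsingleton.elim _ _
    subst this
    rcases mul_eq_zero.mp h1 with h2 | h2
    · exact absurd h2 hl
    · exact h2) : cone 1 one_pos ⟶ n)

theorem ray_realMap_ones {n : ICone} (w : Fin n.dim → ℤ) (hw : ∀ i, 0 ≤ w i) (hw0 : w ≠ 0) :
    (ray w hw hw0).realMap (Fan.Orth.ones Fan.one).1 = castVec w := by
  funext j
  rw [realMap_apply]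
  have h1 : ∀ i, ent (ray w hw hw0) j i = w j := fun i => ent_ofMat _ _ _ _ _ j i
  simp_rw [h1]
  change ∑ i : Fin 1, (w j : ℝ) * 1 = _
  simp [castVec]

theorem isRational_mk_of_int {n : ICone} (ξ : F.obj (op n)) (w : Fin n.dim → ℤ)
    (hw : ∀ i, 0 ≤ w i) (hw0 : w ≠ 0) (c : ℝ) (hc : 0 < c) (u : Fan.Orth n)
    (hu : u.1 = c • castVec w) : (Fan.P.mk ξ u).IsRational := by
  refine ⟨F.map (ray w hw hw0).op ξ, ?_⟩
  exact (mk_map_eq (ray w hw hw0) ξ (Fan.Orth.ones Fan.one) u c hc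
    (by rw [ray_realMap_ones]; exact hu)).symm

/-- rational rays are dense in the punctured orthant -/
theorem mem_of_isClosed_of_rational {n : ICone} (C : Set (Fan.Orth n)) (hC : IsClosed C)
    (hrat : ∀ (w : Fin n.dim → ℤ) (_ : ∀ i, 0 ≤ w i) (_ : w ≠ 0) (c : ℝ) (_ : 0 < c)
      (u : Fan.Orth n), u.1 = c • castVec w → u ∈ C) (v : Fan.Orth n) : v ∈ C := by
  -- approximating sequence
  let W : ℕ → Fin n.dim → ℤ := fun N i => ⌊(N + 1 : ℝ) * v.1 i⌋ + 1
  have hW0 : ∀ N i, 0 < W N i := by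
    intro N i
    have : 0 ≤ ⌊(N + 1 : ℝ) * v.1 i⌋ := Int.floor_nonneg.mpr (mul_nonneg (by positivity) (v.2.1 i))
    change 0 < ⌊(N + 1 : ℝ) * v.1 i⌋ + 1
    omega
  have hWne : ∀ N, W N ≠ 0 := by
    intro N h
    have := congrFun h ⟨0, n.dim.pos⟩
    have h2 := hW0 N ⟨0, n.dim.pos⟩
    rw [this] at h2
    exact lt_irrefl _ h2
  let U : ℕ → Fan.Orth n := fun N =>
    ⟨((N + 1 : ℝ))⁻¹ • castVec (W N), by
      constructor
      · intro i
        apply mul_nonneg (by positivity)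
        change (0:ℝ) ≤ ((W N i : ℤ) : ℝ)
        exact_mod_cast (hW0 N i).le
      · intro h
        have h1 := congrFun h ⟨0, n.dim.pos⟩
        have h2 : (0 : ℝ) < (W N ⟨0, n.dim.pos⟩ : ℝ) := by exact_mod_cast hW0 N ⟨0, n.dim.pos⟩
        have h3 : (0 : ℝ) < ((N + 1 : ℝ))⁻¹ := by positivity
        have h4 : 0 < ((N + 1 : ℝ))⁻¹ * (W N ⟨0, n.dim.pos⟩ : ℝ) := mul_pos h3 h2
        change ((N + 1 : ℝ))⁻¹ * (W N ⟨0, n.dim.pos⟩ : ℝ) = 0 at h1
        rw [h1] at h4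
        exact lt_irrefl _ h4⟩
  have hU : ∀ N, U N ∈ C := fun N =>
    hrat (W N) (fun i => (hW0 N i).le) (hWne N) _ (by positivity) (U N) rfl
  have hlim : Tendsto U atTop (𝓝 v) := by
    rw [(isEmbedding_val n).tendsto_nhds_iff, tendsto_pi_nhds]
    intro i
    change Tendsto (fun N : ℕ => ((N + 1 : ℝ))⁻¹ * ((⌊(N + 1 : ℝ) * v.1 i⌋ + 1 : ℤ) : ℝ)) atTop
      (𝓝 (v.1 i))
    have h1 : Tendsto (fun N : ℕ => v.1 i + ((N + 1 : ℝ))⁻¹) atTop (𝓝 (v.1 i)) := by
      have h2 : Tendsto (fun N : ℕ => ((N + 1 : ℝ))⁻¹) atTop (𝓝 0) := by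
        have := tendsto_one_div_add_atTop_nhds_zero_nat (𝕜 := ℝ)
        simpa [one_div] using this
      simpa using tendsto_const_nhds.add h2
    apply tendsto_of_tendsto_of_tendsto_of_le_of_le (tendsto_const_nhds (x := v.1 i)) h1
    · intro N
      have hN : (0 : ℝ) < (N + 1 : ℝ) := by positivity
      change v.1 i ≤ ((N + 1 : ℝ))⁻¹ * ((⌊(N + 1 : ℝ) * v.1 i⌋ + 1 : ℤ) : ℝ)
      have h3 : (N + 1 : ℝ) * v.1 i < ((⌊(N + 1 : ℝ) * v.1 i⌋ + 1 : ℤ) : ℝ) := by
        push_cast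
        exact Int.lt_floor_add_one _
      rw [inv_mul_eq_div, le_div_iff₀ hN]
      linarith
    · intro N
      have hN : (0 : ℝ) < (N + 1 : ℝ) := by positivity
      change ((N + 1 : ℝ))⁻¹ * ((⌊(N + 1 : ℝ) * v.1 i⌋ + 1 : ℤ) : ℝ) ≤ v.1 i + ((N + 1 : ℝ))⁻¹
      have h3 : ((⌊(N + 1 : ℝ) * v.1 i⌋ + 1 : ℤ) : ℝ) ≤ (N + 1 : ℝ) * v.1 i + 1 := by
        push_cast
        have := Int.floor_le ((N + 1 : ℝ) * v.1 i)
        linarith
      rw [inv_mul_eq_div, div_le_iff₀ hN]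
      have : (v.1 i + ((N + 1 : ℝ))⁻¹) * (N + 1 : ℝ) = (N + 1 : ℝ) * v.1 i + 1 := by
        field_simp
      rw [this]
      exact h3
  exact hC.mem_of_tendsto hlim (Eventually.of_forall hU)

end Groth.Agent.Lib27.Fan
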